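import Groth.Agent.H3CAlg.KC.Depth
import Mathlib.RingTheory.KrullDimension.Regular
import Mathlib.RingTheory.GradedAlgebra.Radical
import Mathlib.RingTheory.Polynomial.HilbertPoly

/-!
# Graded Cohen–Macaulay modules: the regularity is attained at the last step of the resolution
-/

namespace Groth.Agent.H3CAlg.KC

universe u

open MvPolynomial GrSyz Groth.Agent.H3CAlg.Syz RingTheory.Sequence Pointwise

variable {k : Type u} [Field k] {r : ℕ}
variable {M : Type u} [AddCommGroup M] [Module k M] [Module (MvPolynomial (Fin (r + 1)) k) M]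
  [IsScalarTower k (MvPolynomial (Fin (r + 1)) k) M]
  (ℳ : ℤ → Submodule k M) [DirectSum.Decomposition ℳ] [SetLike.GradedSMul (stdGr k (Fin (r + 1))) ℳ]

omit [Module k M] [IsScalarTower k (MvPolynomial (Fin (r + 1)) k) M] in
theorem supportDim_take_add_le [Module.Finite (MvPolynomial (Fin (r + 1)) k) M]
    (ys : List (MvPolynomial (Fin (r + 1)) k)) (hreg : IsWeaklyRegular M ys) (i : ℕ) (hi : i ≤ ys.length) :
    Module.supportDim (MvPolynomial (Fin (r + 1)) k)
        (M ⧸ (Ideal.ofList (ys.take i) • ⊤ : Submodule (MvPolynomial (Fin (r + 1)) k) M)) + (i : WithBot ℕ∞) ≤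
      Module.supportDim (MvPolynomial (Fin (r + 1)) k) M := by
  induction i with
  | zero =>
    rw [Nat.cast_zero, add_zero]
    exact Module.supportDim_le_of_surjective _ (Submodule.mkQ_surjective _)
  | succ i ih =>
    have hlt : i < ys.length := hi
    refine le_trans ?_ (ih hlt.le)
    rw [Nat.cast_succ, add_comm (i : WithBot ℕ∞) 1, ← add_assoc]
    gcongr
    rw [ofList_take_succ ys hlt]
    set A : Submodule (MvPolynomial (Fin (r + 1)) k) M := Ideal.ofList (ys.take i) • ⊤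
    refine le_trans ?_ (Module.supportDim_quotSMulTop_succ_le_of_notMem_minimalPrimes
      (fun _ h => (hreg.regular_mod_prev i hlt).notMem_of_mem_minimalPrimes h))
    gcongr
    refine Module.supportDim_le_of_surjective
      ((ys[i] • (⊤ : Submodule (MvPolynomial (Fin (r + 1)) k) (M ⧸ A))).liftQ (Submodule.factor le_sup_left) ?_) ?_
    · intro q hq
      obtain ⟨q', -, rfl⟩ := hq
      obtain ⟨m, rfl⟩ := Submodule.Quotient.mk_surjective A q'
      show Submodule.factor _ (ys[i] • (Submodule.Quotient.mk m : M ⧸ A)) = 0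
      exact (Submodule.Quotient.mk_eq_zero _).mpr (Submodule.mem_sup_right ⟨m, rfl⟩)
    · intro q
      obtain ⟨m, rfl⟩ := Submodule.Quotient.mk_surjective _ q
      exact ⟨Submodule.Quotient.mk (Submodule.Quotient.mk m), rfl⟩

omit [IsScalarTower k (MvPolynomial (Fin (r + 1)) k) M] in
/-- homogeneous elements of a zero-dimensional graded quotient are torsion at the variables -/
theorem exists_pow_smul_mem_of_dim_le_zero [Module.Finite (MvPolynomial (Fin (r + 1)) k) M]
    {A : Submodule (MvPolynomial (Fin (r + 1)) k) M} (hA : HomogSub ℳ A)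
    (hdim : Module.supportDim (MvPolynomial (Fin (r + 1)) k) (M ⧸ A) ≤ 0) {e : ℤ} {m : M} (hm : m ∈ ℳ e)
    (v : Fin (r + 1)) : ∃ N : ℕ, (X v : MvPolynomial (Fin (r + 1)) k) ^ N • m ∈ A := by
  let Im : Ideal (MvPolynomial (Fin (r + 1)) k) :=
    A.comap (LinearMap.toSpanSingleton (MvPolynomial (Fin (r + 1)) k) M m)
  have hImH : Im.IsHomogeneous (stdGr k (Fin (r + 1))) := by
    intro g c hc
    show P (stdGr k (Fin (r + 1))) g c • m ∈ A
    have := hA (g + e) _ (show c • m ∈ A from hc)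
    rwa [P_smul (stdGr k (Fin (r + 1))) ℳ hm, add_sub_cancel_right] at this
  suffices h : (X v : MvPolynomial (Fin (r + 1)) k) ∈ Im.radical by
    obtain ⟨N, hN⟩ := h
    exact ⟨N, hN⟩
  rw [Ideal.radical_eq_sInf, Submodule.mem_sInf]
  rintro p ⟨hle, hp⟩
  let q : Ideal (MvPolynomial (Fin (r + 1)) k) := (Ideal.homogeneousCore (stdGr k (Fin (r + 1))) p).toIdeal
  have hq : q.IsPrime := Ideal.IsPrime.homogeneousCore (𝒜 := stdGr k (Fin (r + 1))) hp
  have hIq : Im ≤ q := by
    rw [← hImH.toIdeal_homogeneousCore_eq_self]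
    exact Ideal.homogeneousCore_mono (stdGr k (Fin (r + 1))) hle
  have hsupp : ∀ q' : PrimeSpectrum (MvPolynomial (Fin (r + 1)) k), Im ≤ q'.asIdeal →
      q' ∈ Module.support (MvPolynomial (Fin (r + 1)) k) (M ⧸ A) := fun q' hq' =>
    Module.mem_support_iff'.mpr ⟨Submodule.Quotient.mk m, fun c hc hzero => hc (hq' (by
      rw [← Submodule.Quotient.mk_smul, Submodule.Quotient.mk_eq_zero] at hzero
      exact hzero))⟩
  have hmax : ∀ P' : PrimeSpectrum (MvPolynomial (Fin (r + 1)) k), q ≤ P'.asIdeal → P'.asIdeal = q := by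
    intro P' hP'
    have h := Order.krullDim_nonpos_iff_forall_isMax.mp hdim ⟨⟨q, hq⟩, hsupp _ hIq⟩
    exact le_antisymm (h (show (⟨⟨q, hq⟩, hsupp _ hIq⟩ : Module.support (MvPolynomial (Fin (r + 1)) k) (M ⧸ A)) ≤
      ⟨P', hsupp _ (hIq.trans hP')⟩ from hP')) hP'
  have hqp : q = p := (hmax ⟨p, hp⟩ (Ideal.toIdeal_homogeneousCore_le (stdGr k (Fin (r + 1))) p)).symm
  rw [← hqp]
  by_contra hv
  refine hq.ne_top ((Ideal.eq_top_iff_one _).mpr ?_)
  by_cases hall : ∀ c ∈ q, constantCoeff c = 0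
  · exfalso
    have hirr : ((irrel (stdGr k (Fin (r + 1)))).toIdeal).IsPrime := by
      have : (irrel (stdGr k (Fin (r + 1)))).toIdeal = RingHom.ker (constantCoeff : MvPolynomial (Fin (r + 1)) k →+* k) :=
        Ideal.ext fun c => by rw [mem_irrel_iff, RingHom.mem_ker]
      rw [this]
      exact RingHom.ker_isPrime _
    have := hmax ⟨_, hirr⟩ (fun c hc => (mem_irrel_iff c).mpr (hall c hc))
    exact hv (this.le (mem_irrel_of_mem one_ne_zero (X_mem_stdGr v)))
  · push Not at hall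
    obtain ⟨c, hc, hne⟩ := hall
    have h0 := (Ideal.homogeneousCore (stdGr k (Fin (r + 1))) p).isHomogeneous 0 hc
    change P (stdGr k (Fin (r + 1))) 0 c ∈ q at h0
    rw [P_zero_eq] at h0
    have := q.mul_mem_left (C (constantCoeff c)⁻¹) h0
    rwa [← map_mul, inv_mul_cancel₀ hne, map_one] at this

theorem not_ex_of_socle {A : Submodule (MvPolynomial (Fin (r + 1)) k) M} {e : ℤ} {m : M} (hm : m ∈ ℳ e) (hmA : m ∉ A)
    (hk : ∀ v, (X v : MvPolynomial (Fin (r + 1)) k) • m ∈ A) :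
    ¬ (coneL (vars k r) (quotBC ℳ A)).Ex 0 e := by
  intro hex
  have hneg : ∀ n < (0 : ℤ), ∀ e, (quotBC ℳ A).C n e = ⊥ := fun n hn e => if_neg (ne_of_lt hn)
  have hmem : (Submodule.Quotient.mk m : M ⧸ A) ∈ (quotBC ℳ A).C 0 e :=
    mem_ofMod.mpr ⟨fun _ => ⟨m, hm, rfl⟩, fun h => absurd rfl h⟩
  have h0 := eq_zero_of_socle (vars k r) (quotBC ℳ A) hneg (Submodule.Quotient.mk m : M ⧸ A) hmem rfl
    (fun y hy => by
      obtain ⟨v, -, rfl⟩ := List.mem_map.mp hy
      exact (Submodule.Quotient.mk_eq_zero A (x := (X v : MvPolynomial (Fin (r + 1)) k) • m)).mpr (hk v)) hex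
  exact hmA ((Submodule.Quotient.mk_eq_zero A).mp h0)

/-- lifting nonvanishing along a regular sequence -/
theorem not_ex_lift (ys : List (MvPolynomial (Fin (r + 1)) k)) (hys : ∀ y ∈ ys, y ∈ stdGr k (Fin (r + 1)) 1)
    (hreg : IsWeaklyRegular M ys) (h0 : Fst ℳ (Ideal.ofList ys • ⊤ : Submodule (MvPolynomial (Fin (r + 1)) k) M) 0)
    {e : ℤ} (he : ¬ (coneL (vars k r) (quotBC ℳ (Ideal.ofList ys • ⊤ : Submodule (MvPolynomial (Fin (r + 1)) k) M))).Ex 0 e) :
    ¬ (coneL (vars k r) (modBC (r := r) ℳ)).Ex ys.length (e - ys.length) := by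
  suffices h : ∀ j, j ≤ ys.length →
      (∀ n < (j : ℤ), ∀ e, (coneL (vars k r) (quotBC ℳ (Ideal.ofList (ys.take (ys.length - j)) • ⊤ : Submodule (MvPolynomial (Fin (r + 1)) k) M))).Ex n e) ∧
      ¬ (coneL (vars k r) (quotBC ℳ (Ideal.ofList (ys.take (ys.length - j)) • ⊤ : Submodule (MvPolynomial (Fin (r + 1)) k) M))).Ex j (e - j) by
    have := (h ys.length le_rfl).2
    rw [Nat.sub_self, List.take_zero, Ideal.ofList_nil, Submodule.bot_smul, ex_quot_bot_iff] at this
    exact this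
  intro j hj
  induction j with
  | zero => rw [Nat.sub_zero, List.take_length, Nat.cast_zero, sub_zero]; exact ⟨h0.1, he⟩
  | succ j ih =>
    have hlt : ys.length - (j + 1) < ys.length := by omega
    obtain ⟨h1, h2⟩ := ih (Nat.le_of_succ_le hj)
    rw [show ys.length - j = ys.length - (j + 1) + 1 by omega, ofList_take_succ ys hlt] at h1 h2
    have hA := homogSub_take ℳ ys hys _ hlt.le
    have hr := hreg.regular_mod_prev _ hlt
    have hy : ys[ys.length - (j + 1)] ∈ stdGr k (Fin (r + 1)) 1 := hys _ (List.getElem_mem hlt)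
    have hv : ∀ n < ((j + 1 : ℕ) : ℤ), ∀ e, (coneL (vars k r) (quotBC ℳ (Ideal.ofList (ys.take (ys.length - (j + 1))) • ⊤ : Submodule (MvPolynomial (Fin (r + 1)) k) M))).Ex n e := by
      intro n hn e
      have := ((ex_quot_step ℳ _ hA ⟨_, hy⟩ hr (n - 1) (e + 1)).mp (h1 (n - 1) (by push_cast at hn; omega) (e + 1))).1
      rwa [sub_add_cancel, add_sub_cancel_right] at this
    refine ⟨hv, fun h => h2 ((ex_quot_step ℳ _ hA ⟨_, hy⟩ hr j (e - j)).mpr ⟨?_, hv j (by push_cast; omega) _⟩)⟩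
    rwa [Nat.cast_succ, show e - ((j : ℤ) + 1) = e - j - 1 by ring] at h

/-- for a Cohen–Macaulay module the regularity is attained at the last step -/
theorem exists_deg_eq_of_cm [Infinite k] [Module.Finite (MvPolynomial (Fin (r + 1)) k) M]
    (hCM : Module.supportDim (MvPolynomial (Fin (r + 1)) k) M =
      ((LocCoh.idealDepth (irrel (stdGr k (Fin (r + 1)))).toIdeal M : ℕ∞) : WithBot ℕ∞))
    (F : FreeRes (stdGr k (Fin (r + 1))) ℳ) (hF : F.IsMinimal (irrel (stdGr k (Fin (r + 1)))).toIdeal)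
    {ℓ : ℕ} (hℓ : F.HasLengthLE ℓ) (hℓ' : F.rk ℓ ≠ 0) {ρ : ℤ} (hρ : F.IsGenLE ρ) (hρ' : ¬ F.IsGenLE (ρ - 1)) :
    ∃ b : Fin (F.rk ℓ), F.deg ℓ b = ρ + ℓ := by
  haveI : Nontrivial M := by
    by_contra hnt
    rw [not_nontrivial_iff_subsingleton] at hnt
    refine hρ' ((kle_iff_isGenLE F hF _).mp fun n e he => coneL_ex (vars k r) (modBC (r := r) ℳ) (D := ρ - 1)
      (fun n e _ z _ _ => ⟨0, zero_mem _, Subsingleton.elim _ _⟩) n e he)
  have hAB := length_add_idealDepth ℳ F hF hℓ hℓ'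
  obtain ⟨ys, h1, h2, h3, -⟩ := exists_linear_regular (r := r) ℳ
  rw [h3, ← Nat.cast_add, Nat.cast_inj] at hAB
  set A : Submodule (MvPolynomial (Fin (r + 1)) k) M := Ideal.ofList ys • ⊤ with hAdef
  have hA : HomogSub ℳ A := by
    have := homogSub_take ℳ ys h1 ys.length le_rfl
    rwa [List.take_length] at this
  have hdim : Module.supportDim (MvPolynomial (Fin (r + 1)) k) (M ⧸ A) ≤ 0 := by
    have := supportDim_take_add_le (M := M) ys h2 ys.length le_rfl
    rw [List.take_length, hCM, h3] at this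
    generalize Module.supportDim (MvPolynomial (Fin (r + 1)) k) (M ⧸ A) = x at this ⊢
    cases x with
    | bot => exact bot_le
    | coe x =>
      have h' : x + (ys.length : ℕ∞) ≤ (ys.length : ℕ∞) := WithBot.coe_le_coe.mp (by exact_mod_cast this)
      cases x with
      | top => simp at h'
      | coe x =>
        have h'' : x + ys.length ≤ ys.length := by exact_mod_cast h'
        have : x = 0 := by omega
        subst this
        exact le_rfl
  have htor : ∀ v, (quotBC ℳ A).Tor (X v : MvPolynomial (Fin (r + 1)) k) := by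
    intro v n e z hz _
    rcases eq_or_ne n 0 with hn | hn
    · obtain ⟨m, hm, rfl⟩ := (mem_ofMod.mp hz).1 hn
      obtain ⟨N, hN⟩ := exists_pow_smul_mem_of_dim_le_zero ℳ hA hdim hm v
      exact ⟨N, 0, zero_mem _, by rw [map_zero]; exact ((Submodule.Quotient.mk_eq_zero A).mpr hN).symm⟩
    · exact ⟨0, 0, zero_mem _, by rw [map_zero, (mem_ofMod.mp hz).2 hn, smul_zero]⟩
  have hiff : ∀ d, F.IsGenLE d ↔ ∀ e, d < e → ∀ m ∈ ℳ e, m ∈ A := fun d => by
    rw [← kle_iff_isGenLE F hF, kle_iff_ele, ele_regular_seq ℳ ys h1 h2, ele_ofMod_iff htor]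
    refine forall_congr' fun e => imp_congr_right fun _ => ⟨fun h m hm => ?_, fun h z hz => ?_⟩
    · exact (Submodule.Quotient.mk_eq_zero A).mp (h _ ⟨m, hm, rfl⟩)
    · obtain ⟨m, hm, rfl⟩ := hz
      exact (Submodule.Quotient.mk_eq_zero A).mpr (h m hm)
  rw [hiff] at hρ'
  push Not at hρ'
  obtain ⟨e, he, m, hm, hmA⟩ := hρ'
  have heρ : e = ρ := le_antisymm (not_lt.mp fun h => hmA ((hiff ρ).mp hρ e h m hm)) (by omega)
  subst heρ
  have hk : ∀ v, (X v : MvPolynomial (Fin (r + 1)) k) • m ∈ A := fun v =>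
    (hiff e).mp hρ (e + 1) (by omega) _ (smul_mem_piece ℳ (X_mem_stdGr v) hm)
  have hne := not_ex_lift ℳ ys h1 h2 (fst_zero_of_socle ℳ ⟨e, m, hm, hmA, hk⟩) (not_ex_of_socle ℳ hm hmA hk)
  rw [ex_iff_deg F hF] at hne
  push Not at hne
  obtain ⟨i, a, hi, ha⟩ := hne
  obtain rfl : i = ℓ := by omega
  exact ⟨a, by omega⟩

section Binom

/-- the binomial polynomial `C(d - j + r, r)` -/
noncomputable def binPoly (r : ℕ) (j : ℤ) : Polynomial ℚ :=
  (Polynomial.preHilbertPoly ℚ r 0).comp (Polynomial.X - Polynomial.C (j : ℚ))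

theorem binPoly_eval (r : ℕ) (j d : ℤ) :
    (binPoly r j).eval (d : ℚ) = (r.factorial : ℚ)⁻¹ * (ascPochhammer ℚ r).eval ((d - j + 1 : ℤ) : ℚ) := by
  simp [binPoly, Polynomial.preHilbertPoly]

theorem binPoly_eval_of_le (r : ℕ) {j d : ℤ} (h : j ≤ d) :
    (binPoly r j).eval (d : ℚ) = ((Nat.choose (r + (d - j).toNat) r : ℕ) : ℚ) := by
  obtain ⟨n, hn⟩ : ∃ n : ℕ, d - j = n := ⟨(d - j).toNat, by omega⟩
  rw [binPoly, Polynomial.eval_comp, Polynomial.eval_sub, Polynomial.eval_X, Polynomial.eval_C,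
    show (d : ℚ) - (j : ℚ) = (n : ℚ) by rw [← Int.cast_sub, hn, Int.cast_natCast],
    Polynomial.preHilbertPoly_eq_choose_sub_add ℚ r (Nat.zero_le n), hn, Int.toNat_natCast, Nat.sub_zero, add_comm r n]

theorem ascPochhammer_eval_neg {r m : ℕ} (h : m < r) : (ascPochhammer ℚ r).eval (-(m : ℚ)) = 0 := by
  induction r with
  | zero => omega
  | succ r ih =>
    rw [ascPochhammer_succ_eval]
    rcases Nat.lt_succ_iff_lt_or_eq.mp h with h' | h'
    · rw [ih h', zero_mul]
    · rw [h', neg_add_cancel, mul_zero]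

theorem ascPochhammer_eval_neg_ne (r : ℕ) {m : ℕ} (h : r ≤ m) : (ascPochhammer ℚ r).eval (-(m : ℚ)) ≠ 0 := by
  induction r with
  | zero => simp
  | succ r ih =>
    rw [ascPochhammer_succ_eval]
    refine mul_ne_zero (ih (by omega)) fun h0 => ?_
    have : (r : ℚ) = m := by linarith
    have : r = m := by exact_mod_cast this
    omega

theorem binPoly_eval_eq_zero (r : ℕ) {j d : ℤ} (h1 : d < j) (h2 : j ≤ d + r) : (binPoly r j).eval (d : ℚ) = 0 := by
  rw [binPoly_eval, show ((d - j + 1 : ℤ) : ℚ) = -((j - d - 1).toNat : ℚ) by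
    rw [show d - j + 1 = -((j - d - 1).toNat : ℤ) by omega]; push_cast; ring,
    ascPochhammer_eval_neg (by omega), mul_zero]

theorem binPoly_eval_ne_zero (r : ℕ) (d : ℤ) : (binPoly r (d + r + 1)).eval (d : ℚ) ≠ 0 := by
  rw [binPoly_eval, show ((d - (d + r + 1) + 1 : ℤ) : ℚ) = -(r : ℚ) by push_cast; ring]
  exact mul_ne_zero (by simp [Nat.factorial_ne_zero]) (ascPochhammer_eval_neg_ne r le_rfl)

end Binom

end Groth.Agent.H3CAlg.KC
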