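import Groth.Agent.H3CAlg.KC.LC

/-!
# Regularity criteria: ends of local cohomology, torsion modules, short exact sequences, regular sequences
-/

namespace Groth.Agent.H3CAlg.KC

universe u

open MvPolynomial GrSyz Groth.Agent.H3CAlg.Syz

theorem endDeg_le_iff {M : Type u} [AddCommGroup M] (ℳ : ℤ → AddSubgroup M) (d : ℤ) :
    GrLC.endDeg ℳ ≤ ((d : WithTop ℤ) : WithBot (WithTop ℤ)) ↔ ∀ g, d < g → ℳ g = ⊥ := by
  simp only [GrLC.endDeg, iSup_le_iff, WithBot.coe_le_coe, WithTop.coe_le_coe]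
  exact ⟨fun h g hg => by_contra fun hne => not_le.mpr hg (h g hne),
    fun h g hne => le_of_not_gt fun hg => hne (h g hg)⟩

theorem add_coe_le_iff (x : WithBot (WithTop ℤ)) (i d : ℤ) :
    x + ((i : WithTop ℤ) : WithBot (WithTop ℤ)) ≤ ((d : WithTop ℤ) : WithBot (WithTop ℤ)) ↔
      x ≤ (((d - i : ℤ) : WithTop ℤ) : WithBot (WithTop ℤ)) := by
  cases x with
  | bot => simp
  | coe x =>
    cases x with
    | top =>
      rw [← WithBot.coe_add, top_add, WithBot.coe_le_coe, WithBot.coe_le_coe]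
      exact iff_of_false (not_le.mpr (WithTop.coe_lt_top _)) (not_le.mpr (WithTop.coe_lt_top _))
    | coe x =>
      simp only [← WithBot.coe_add, ← WithTop.coe_add, WithBot.coe_le_coe, WithTop.coe_le_coe]
      omega

theorem eq_of_forall_le_iff {a b : WithBot (WithTop ℤ)}
    (h : ∀ d : ℤ, a ≤ ((d : WithTop ℤ) : WithBot (WithTop ℤ)) ↔ b ≤ ((d : WithTop ℤ) : WithBot (WithTop ℤ))) :
    a = b := by
  suffices key : ∀ a b : WithBot (WithTop ℤ),
      (∀ d : ℤ, b ≤ ((d : WithTop ℤ) : WithBot (WithTop ℤ)) → a ≤ ((d : WithTop ℤ) : WithBot (WithTop ℤ))) → a ≤ b from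
    le_antisymm (key a b fun d => (h d).mpr) (key b a fun d => (h d).mp)
  intro a b h
  cases b with
  | bot =>
    cases a with
    | bot => exact le_rfl
    | coe a =>
      cases a with
      | top => exact absurd (WithBot.coe_le_coe.mp (h 0 bot_le)) (not_le.mpr (WithTop.coe_lt_top _))
      | coe a =>
        have := h (a - 1) bot_le
        simp only [WithBot.coe_le_coe, WithTop.coe_le_coe] at this
        omega
  | coe b =>
    cases b with
    | top => exact le_top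
    | coe b => exact h b le_rfl

variable {k : Type u} [Field k] {r : ℕ} {M : Type u} [AddCommGroup M] [Module k M]
  [Module (MvPolynomial (Fin (r + 1)) k) M]
  {ℳ : ℤ → Submodule k M} [DirectSum.Decomposition ℳ] [SetLike.GradedSMul (stdGr k (Fin (r + 1))) ℳ]

theorem hgr_eq_bot_iff (E : GrLC.StarInjRes (stdGr k (Fin (r + 1))) ℳ) (i : ℕ) (g : ℤ) :
    E.Hgr (irrel (stdGr k (Fin (r + 1)))) i g = ⊥ ↔ E.Hcomp (irrel (stdGr k (Fin (r + 1)))) i g = ⊥ := by
  rw [GrLC.StarInjRes.Hgr, AddSubgroup.eq_bot_iff_forall, Submodule.eq_bot_iff]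
  rfl

theorem endDeg_H_le_iff (E : GrLC.StarInjRes (stdGr k (Fin (r + 1))) ℳ) (i : ℕ) (d : ℤ) :
    GrLC.endDeg (E.Hgr (irrel (stdGr k (Fin (r + 1)))) i) ≤ ((d : WithTop ℤ) : WithBot (WithTop ℤ)) ↔
      ∀ g, d < g → E.Hcomp (irrel (stdGr k (Fin (r + 1)))) i g = ⊥ := by
  simp only [endDeg_le_iff, hgr_eq_bot_iff]

theorem endDeg_add_le_iff (E : GrLC.StarInjRes (stdGr k (Fin (r + 1))) ℳ) (d : ℤ) :
    (∀ i : ℕ, GrLC.endDeg (E.Hgr (irrel (stdGr k (Fin (r + 1)))) i) + (((i : ℤ) : WithTop ℤ) : WithBot (WithTop ℤ)) ≤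
      ((d : WithTop ℤ) : WithBot (WithTop ℤ))) ↔ KLE (r := r) ℳ d := by
  rw [← hcomp_vanish_iff_kle E]
  simp only [add_coe_le_iff, endDeg_H_le_iff]
  exact ⟨fun h i g hg => h i g (by omega), fun h i g hg => h i g (by omega)⟩

theorem eps_zero_of_hcomp (E : GrLC.StarInjRes (stdGr k (Fin (r + 1))) ℳ) {g : ℤ}
    (h : E.Hcomp (irrel (stdGr k (Fin (r + 1)))) 0 g = ⊥) {z : M} (hz : z ∈ ℳ g)
    (ht : ∀ v : Fin (r + 1), ∃ N : ℕ, (X v : MvPolynomial (Fin (r + 1)) k) ^ N • z = 0) : z = 0 := by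
  have h' := (Hcomp_eq_bot_iff E 0 g).mp h
  rw [Nat.cast_zero, ofSeq_ex_zero] at h'
  refine E.ε_injective ((h' (E.ε z) ⟨E.ε_grHom g z hz, fun v _ => ?_⟩ ?_).trans (map_zero E.ε).symm)
  · obtain ⟨N, hN⟩ := ht v
    exact ⟨N, by rw [← map_smul, hN, map_zero]⟩
  · exact LinearMap.mem_ker.mp (E.exact_zero.ge (LinearMap.mem_range_self _ z))

/-- homogeneous elements of a submodule of finite length are killed by powers of the variables -/
theorem exists_pow_smul_of_isFiniteLength (K : Submodule (MvPolynomial (Fin (r + 1)) k) M)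
    (hK : IsFiniteLength (MvPolynomial (Fin (r + 1)) k) K) (v : Fin (r + 1)) {e : ℤ} {m : M} (hm : m ∈ ℳ e)
    (hmK : m ∈ K) : ∃ N : ℕ, (X v : MvPolynomial (Fin (r + 1)) k) ^ N • m = 0 := by
  obtain ⟨hnoe, hart⟩ := isFiniteLength_iff_isNoetherian_isArtinian.mp hK
  let x : MvPolynomial (Fin (r + 1)) k := X v
  obtain ⟨N, hN⟩ := IsArtinian.monotone_stabilizes
    (⟨fun n => OrderDual.toDual (LinearMap.range (x ^ n • (LinearMap.id : K →ₗ[MvPolynomial (Fin (r + 1)) k] K))),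
      monotone_nat_of_le_succ fun n => by
        show LinearMap.range _ ≤ LinearMap.range _
        rintro _ ⟨a, rfl⟩
        exact ⟨x • a, by simp [pow_succ', mul_smul, smul_comm x]⟩⟩ : ℕ →o (Submodule (MvPolynomial (Fin (r + 1)) k) K)ᵒᵈ)
  refine ⟨N, ?_⟩
  let A : Submodule (MvPolynomial (Fin (r + 1)) k) K :=
    LinearMap.range (x ^ N • (LinearMap.id : K →ₗ[MvPolynomial (Fin (r + 1)) k] K))
  have hA : A ≤ Ideal.span {x} • A := by
    rintro _ ⟨a, rfl⟩
    have h1 : (x ^ N • (LinearMap.id : K →ₗ[MvPolynomial (Fin (r + 1)) k] K)) a ∈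
        LinearMap.range (x ^ (N + 1) • (LinearMap.id : K →ₗ[MvPolynomial (Fin (r + 1)) k] K)) :=
      (OrderDual.toDual.injective (hN (N + 1) (Nat.le_succ N))).le (LinearMap.mem_range_self _ a)
    obtain ⟨b, hb⟩ := h1
    rw [← hb]
    simp only [LinearMap.smul_apply, LinearMap.id_apply, pow_succ', mul_smul]
    exact Submodule.smul_mem_smul (Ideal.mem_span_singleton_self x) ⟨b, rfl⟩
  obtain ⟨c, hc, hcz⟩ := Submodule.exists_sub_one_mem_and_smul_eq_zero_of_fg_of_le_smul _ A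
    (IsNoetherian.noetherian A) hA
  have h2 : c • x ^ N • m = 0 := congrArg Subtype.val (hcz _ ⟨⟨m, hmK⟩, rfl⟩)
  have hmem : x ^ N • m ∈ ℳ ((N : ℕ) • (1 : ℤ) + e) :=
    SetLike.GradedSMul.smul_mem (A := stdGr k (Fin (r + 1)))
      (SetLike.pow_mem_graded (A := stdGr k (Fin (r + 1))) N (X_mem_stdGr v)) hm
  have hc1 : constantCoeff c = 1 := by
    obtain ⟨a, ha⟩ := Ideal.mem_span_singleton'.mp hc
    have := congrArg constantCoeff ha
    simp only [map_mul, map_sub, map_one, x, constantCoeff_X, mul_zero] at this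
    exact sub_eq_zero.mp this.symm
  have h3 := congrArg (P ℳ ((N : ℕ) • (1 : ℤ) + e)) h2
  rwa [P_smul (stdGr k (Fin (r + 1))) ℳ hmem, sub_self, P_zero_eq, hc1, map_one, one_smul, map_zero] at h3

theorem exists_pow_smul_of_all (K : Submodule (MvPolynomial (Fin (r + 1)) k) M)
    (hK : IsFiniteLength (MvPolynomial (Fin (r + 1)) k) K) {S : ℤ → AddSubgroup K}
    (hS : ∀ e z, z ∈ S e → (z : M) ∈ ℳ e) {hS' : ∀ y ∈ Lv k r, ∀ e z, z ∈ S e → y • z ∈ S (e + 1)} (v : Fin (r + 1)) :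
    (ofMod (Lv k r) S hS').Tor (X v) := by
  intro n e z hz _
  rcases eq_or_ne n 0 with hn | hn
  · obtain ⟨N, hN⟩ := exists_pow_smul_of_isFiniteLength K hK v (hS e z ((mem_ofMod.mp hz).1 hn)) z.2
    exact ⟨N, 0, zero_mem _, by rw [map_zero]; exact (Subtype.ext hN).symm⟩
  · exact ⟨0, 0, zero_mem _, by rw [map_zero, (mem_ofMod.mp hz).2 hn, smul_zero]⟩

section General

variable {T : Type u} [AddCommGroup T] [Module (MvPolynomial (Fin (r + 1)) k) T]

/-- Koszul cohomology vanishes in total degrees above `d` -/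
def ELE (B : BC (MvPolynomial (Fin (r + 1)) k) (Lv k r)) (d : ℤ) : Prop :=
  ∀ n e, d < e + n → (coneL (vars k r) B).Ex n e

/-- for a module with torsion elements only, regularity is the end of the module -/
theorem ele_ofMod_iff {S : ℤ → AddSubgroup T} {hS : ∀ y ∈ Lv k r, ∀ e z, z ∈ S e → y • z ∈ S (e + 1)}
    (ht : ∀ v, (ofMod (Lv k r) S hS).Tor (X v : MvPolynomial (Fin (r + 1)) k)) (d : ℤ) :
    ELE (ofMod (Lv k r) S hS) d ↔ ∀ e, d < e → ∀ z ∈ S e, z = 0 := by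
  constructor
  · intro h e he
    refine (ofMod_ex 0 e).mp (ex_of_coneL (vars k r) _ (D := d) (fun y hy => ?_) h 0 e (by omega)) rfl
    obtain ⟨v, -, rfl⟩ := List.mem_map.mp hy
    exact ht v
  · intro h
    exact coneL_ex (vars k r) _ fun n e he => (ofMod_ex n e).mpr fun hn => h e (by omega)

/-- reindexing -/
noncomputable abbrev shiftBC (B : BC (MvPolynomial (Fin (r + 1)) k) (Lv k r)) (a c : ℤ) :
    BC (MvPolynomial (Fin (r + 1)) k) (Lv k r) where
  T := B.T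
  d := B.d
  C n e := B.C (n + a) (e + c)
  d_d := B.d_d
  d_mem n e z hz := by rw [add_right_comm]; exact B.d_mem _ _ z hz
  smul_mem y hy n e z hz := by rw [add_right_comm]; exact B.smul_mem y hy _ _ z hz

theorem shiftBC_ex (B : BC (MvPolynomial (Fin (r + 1)) k) (Lv k r)) (a c n e : ℤ) :
    (shiftBC B a c).Ex n e ↔ B.Ex (n + a) (e + c) := by
  constructor <;> intro h z hz hd <;> obtain ⟨w, hw, hwz⟩ := h z hz hd <;> refine ⟨w, ?_, hwz⟩
  · rw [show n + a - 1 = n - 1 + a by ring]; exact hw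
  · show w ∈ B.C (n - 1 + a) (e + c)
    rwa [show n - 1 + a = n + a - 1 by ring]

/-- identity on a reindexed cone -/
noncomputable def shiftConeHom (B : BC (MvPolynomial (Fin (r + 1)) k) (Lv k r)) (a c : ℤ) (y : Lv k r) :
    Hom (cone (shiftBC B a c) y) (shiftBC (cone B y) a c) where
  f := LinearMap.id
  comm _ := rfl
  mem n e z hz := by
    obtain ⟨h1, h2⟩ := (mem_cone _ _).mp hz
    refine (mem_cone B y).mpr ⟨h1, ?_⟩
    rw [show n + a - 1 = n - 1 + a by ring, show e + c + 1 = e + 1 + c by ring]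
    exact h2

theorem isQ_shiftConeHom (B : BC (MvPolynomial (Fin (r + 1)) k) (Lv k r)) (a c : ℤ) (y : Lv k r) :
    (shiftConeHom B a c y).IsQ := by
  have hmem : ∀ n e z, z ∈ (shiftBC (cone B y) a c).C n e → z ∈ (cone (shiftBC B a c) y).C n e := by
    intro n e z hz
    obtain ⟨h1, h2⟩ := (mem_cone B y).mp hz
    refine (mem_cone _ _).mpr ⟨h1, ?_⟩
    show z.2 ∈ B.C (n - 1 + a) (e + 1 + c)
    rwa [show n - 1 + a = n + a - 1 by ring, show e + 1 + c = e + c + 1 by ring]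
  exact ⟨fun n e z _ _ w hw hwz => ⟨w, hmem _ _ w hw, hwz⟩,
    fun n e z hz hd => ⟨z, hmem _ _ z hz, hd, 0, zero_mem _, by rw [map_zero, add_zero]; rfl⟩⟩

theorem ex_coneL_shiftBC : ∀ (l : List (Lv k r)) (B : BC (MvPolynomial (Fin (r + 1)) k) (Lv k r)) (a c n e : ℤ),
    (coneL l (shiftBC B a c)).Ex n e ↔ (coneL l B).Ex (n + a) (e + c)
  | [], B, a, c, n, e => shiftBC_ex B a c n e
  | y :: l, B, a, c, n, e =>
    (ex_coneL_iff (isQ_shiftConeHom B a c y) l n e).trans (ex_coneL_shiftBC l (cone B y) a c n e)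

theorem ele_shiftBC (B : BC (MvPolynomial (Fin (r + 1)) k) (Lv k r)) (a c d : ℤ) :
    ELE (shiftBC B a c) d ↔ ELE B (d + a + c) := by
  refine ⟨fun h n e he => ?_, fun h n e he => (ex_coneL_shiftBC _ B a c n e).mpr (h _ _ (by omega))⟩
  have := (ex_coneL_shiftBC _ B a c (n - a) (e - c)).mp (h _ _ (by omega))
  rwa [sub_add_cancel, sub_add_cancel] at this

theorem ELE.mono {B : BC (MvPolynomial (Fin (r + 1)) k) (Lv k r)} {d d' : ℤ} (h : ELE B d) (hd : d ≤ d') :
    ELE B d' := fun n e he => h n e (by omega)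

theorem ele_iff_of_isQ {B B' : BC (MvPolynomial (Fin (r + 1)) k) (Lv k r)} {φ : Hom B B'} (h : φ.IsQ) (d : ℤ) :
    ELE B d ↔ ELE B' d :=
  forall_congr' fun n => forall_congr' fun e => imp_congr_right fun _ => ex_coneL_iff h _ n e

variable {B₁ B₂ B₃ : BC (MvPolynomial (Fin (r + 1)) k) (Lv k r)} {α : Hom B₁ B₂} {β : Hom B₂ B₃}

theorem ele₂ (h : IsShort α β) {d : ℤ} (h1 : ELE B₁ d) (h3 : ELE B₃ d) : ELE B₂ d :=
  fun n e he => (h.coneL _).ex₂ (h1 n e he) (h3 n e he)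

theorem ele₁ (h : IsShort α β) {d : ℤ} (h2 : ELE B₂ d) (h3 : ELE B₃ (d - 1)) : ELE B₁ d :=
  fun n e he => (h.coneL _).ex₁ (h2 n e he) (h3 _ e (by omega))

theorem ele₃ (h : IsShort α β) {d : ℤ} (h2 : ELE B₂ d) (h1 : ELE B₁ (d + 1)) : ELE B₃ d :=
  fun n e he => (h.coneL _).ex₃ (h2 n e he) (h1 _ e (by omega))

/-- constants preserve the bidegree pieces -/
def ConstStable (B : BC (MvPolynomial (Fin (r + 1)) k) (Lv k r)) : Prop :=
  ∀ (c : k) n e z, z ∈ B.C n e → (C c : MvPolynomial (Fin (r + 1)) k) • z ∈ B.C n e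

theorem ConstStable.coneL : ∀ (l : List (Lv k r)) {B : BC (MvPolynomial (Fin (r + 1)) k) (Lv k r)},
    ConstStable B → ConstStable (KC.coneL l B)
  | [], _, h => h
  | y :: l, B, h => ConstStable.coneL l (B := cone B y) fun c n e z hz =>
      (mem_cone B y).mpr ⟨h c _ _ _ ((mem_cone B y).mp hz).1, h c _ _ _ ((mem_cone B y).mp hz).2⟩

theorem linear_form_eq {y : MvPolynomial (Fin (r + 1)) k} (hy : y ∈ stdGr k (Fin (r + 1)) 1) :
    ∃ c : Fin (r + 1) → k, y = ∑ v, C (c v) * X v := by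
  have h : y ∈ Ideal.span (Set.range (X : Fin (r + 1) → MvPolynomial (Fin (r + 1)) k)) := by
    have h1 : y ∈ firstVars k r (r + 1) := by rw [firstVars_top]; exact mem_irrel_of_mem one_ne_zero hy
    exact Ideal.span_mono (Set.image_subset_range _ _) h1
  obtain ⟨a, ha⟩ := Ideal.mem_span_range_iff_exists_fun.mp h
  refine ⟨fun v => constantCoeff (a v), ?_⟩
  have h1 := congrArg (P (stdGr k (Fin (r + 1))) 1) ha
  rw [P_of_mem _ hy, if_pos rfl, map_sum] at h1
  rw [← h1]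
  refine Finset.sum_congr rfl fun v _ => ?_
  rw [← smul_eq_mul (a v), P_smul (stdGr k (Fin (r + 1))) (stdGr k (Fin (r + 1))) (X_mem_stdGr v), sub_self,
    P_zero_eq]
  rfl

theorem null_of_linear {B : BC (MvPolynomial (Fin (r + 1)) k) (Lv k r)} (hB : ConstStable B) (y : Lv k r) :
    (coneL (vars k r) B).Null (y : MvPolynomial (Fin (r + 1)) k) := by
  classical
  obtain ⟨c, hc⟩ := linear_form_eq y.2
  rw [hc]
  refine Finset.induction_on (motive := fun s => (coneL (vars k r) B).Null (∑ v ∈ s, C (c v) * X v))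
    Finset.univ ?_ fun v s hv ih => ?_
  · rw [Finset.sum_empty]; exact BC.Null.zero _
  · rw [Finset.sum_insert hv]
    exact ((null_coneL_of_mem (vars k r) B (var_mem_vars v)).mul (hB.coneL _ (c v))).add ih

theorem ele_cone_iff {B : BC (MvPolynomial (Fin (r + 1)) k) (Lv k r)} (hB : ConstStable B) (y : Lv k r) (d : ℤ) :
    ELE (cone B y) d ↔ ELE B d := by
  refine ⟨fun h => ?_, fun h n e he => (ex_coneL_cone _ B y n e).mpr (cone_ex _ y (h n e he) (h _ _ (by omega)))⟩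
  exact ex_of_cone _ y (fun n e he => (ex_coneL_cone _ B y n e).mp (h n e he)) (null_of_linear hB y).tor

end General

theorem kle_iff_ele (d : ℤ) : KLE (r := r) ℳ d ↔ ELE (modBC (r := r) ℳ) d := Iff.rfl

variable [IsScalarTower k (MvPolynomial (Fin (r + 1)) k) M] [Module.Finite (MvPolynomial (Fin (r + 1)) k) M]

theorem reg_le_iff (d : ℤ) :
    reg (stdGr k (Fin (r + 1))) ℳ (irrel (stdGr k (Fin (r + 1)))).toIdeal ≤ ((d : WithTop ℤ) : WithBot (WithTop ℤ)) ↔
      KLE (r := r) ℳ d := by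
  refine ⟨fun h => ?_, fun h => iInf₂_le (f := fun (r' : ℤ)
    (_ : IsRegLE (stdGr k (Fin (r + 1))) ℳ (irrel (stdGr k (Fin (r + 1)))).toIdeal r') =>
      ((r' : WithTop ℤ) : WithBot (WithTop ℤ))) d ((isRegLE_iff_kle (r := r) ℳ d).mpr h)⟩
  by_contra hne
  have h1 : (((d + 1 : ℤ) : WithTop ℤ) : WithBot (WithTop ℤ)) ≤
      reg (stdGr k (Fin (r + 1))) ℳ (irrel (stdGr k (Fin (r + 1)))).toIdeal :=
    le_iInf₂ fun r' hr' => by
      rw [WithBot.coe_le_coe, WithTop.coe_le_coe]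
      by_contra hlt
      exact hne (((isRegLE_iff_kle (r := r) ℳ r').mp hr').mono _ (by omega))
  have := h1.trans h
  rw [WithBot.coe_le_coe, WithTop.coe_le_coe] at this
  omega

end Groth.Agent.H3CAlg.KC
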