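import Mathlib.RingTheory.Ideal.Span
import Mathlib.Tactic

/-!
# Bigraded complexes of modules, cones of multiplication maps, iterated (Koszul) cones

A complex is kept as one module `T` with a differential and a family of subgroups `C n e`
(cohomological degree `n`, internal degree `e`); all vanishing statements are elementwise.
-/

namespace Groth.Agent.H3CAlg.KC

universe u

variable {R : Type u} [CommRing R]

/-- a bigraded complex on which the elements of `L` act with bidegree `(0, 1)` -/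
structure BC (R : Type u) [CommRing R] (L : Set R) : Type (u + 1) where
  T : Type u
  [acg : AddCommGroup T]
  [mod : Module R T]
  d : T →ₗ[R] T
  C : ℤ → ℤ → AddSubgroup T
  d_d : ∀ z, d (d z) = 0
  d_mem : ∀ n e z, z ∈ C n e → d z ∈ C (n + 1) e
  smul_mem : ∀ y ∈ L, ∀ n e z, z ∈ C n e → y • z ∈ C n (e + 1)

attribute [instance] BC.acg BC.mod

variable {L : Set R}

/-- no cohomology in bidegree `(n, e)` -/
def BC.Ex (B : BC R L) (n e : ℤ) : Prop :=
  ∀ z ∈ B.C n e, B.d z = 0 → ∃ w ∈ B.C (n - 1) e, B.d w = z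

/-- the cohomology is `y`-torsion -/
def BC.Tor (B : BC R L) (y : R) : Prop :=
  ∀ n e, ∀ z ∈ B.C n e, B.d z = 0 → ∃ N : ℕ, ∃ w ∈ B.C (n - 1) (e + N), B.d w = y ^ N • z

theorem BC.d_mem' (B : BC R L) {n e : ℤ} {z : B.T} (hz : z ∈ B.C (n - 1) e) : B.d z ∈ B.C n e := by
  simpa using B.d_mem (n - 1) e z hz

theorem BC.smul_pow_mem (B : BC R L) {y : R} (hy : y ∈ L) (N : ℕ) {n e : ℤ} {z : B.T} (hz : z ∈ B.C n e) :
    y ^ N • z ∈ B.C n (e + N) := by
  induction N with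
  | zero => simpa using hz
  | succ N ih =>
    rw [pow_succ', mul_smul, Nat.cast_succ, ← add_assoc]
    exact B.smul_mem y hy _ _ _ ih

/-- the cone of multiplication by `y` -/
abbrev cone (B : BC R L) (y : L) : BC R L where
  T := B.T × B.T
  d := LinearMap.prod (B.d ∘ₗ LinearMap.fst R B.T B.T)
    ((y : R) • LinearMap.fst R B.T B.T - B.d ∘ₗ LinearMap.snd R B.T B.T)
  C n e := (B.C n e).prod (B.C (n - 1) (e + 1))
  d_d z := by simp [B.d_d]
  d_mem n e z hz := by
    obtain ⟨h1, h2⟩ := AddSubgroup.mem_prod.mp hz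
    refine AddSubgroup.mem_prod.mpr ⟨B.d_mem n e _ h1, ?_⟩
    rw [show n + 1 - 1 = n by ring]
    exact sub_mem (B.smul_mem y y.2 n e _ h1) (B.d_mem' h2)
  smul_mem c hc n e z hz := by
    obtain ⟨h1, h2⟩ := AddSubgroup.mem_prod.mp hz
    exact AddSubgroup.mem_prod.mpr ⟨B.smul_mem c hc _ _ _ h1, B.smul_mem c hc _ _ _ h2⟩

theorem cone_d (B : BC R L) (y : L) (z : B.T × B.T) :
    (cone B y).d z = (B.d z.1, (y : R) • z.1 - B.d z.2) := rfl

theorem mem_cone (B : BC R L) (y : L) {n e : ℤ} {z : B.T × B.T} :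
    z ∈ (cone B y).C n e ↔ z.1 ∈ B.C n e ∧ z.2 ∈ B.C (n - 1) (e + 1) := AddSubgroup.mem_prod

theorem cone_ex (B : BC R L) (y : L) {n e : ℤ} (h1 : B.Ex n e) (h2 : B.Ex (n - 1) (e + 1)) :
    (cone B y).Ex n e := by
  intro z hz hd
  obtain ⟨ha, hb⟩ := (mem_cone B y).mp hz
  obtain ⟨hda, hdb⟩ := Prod.mk_eq_zero.mp ((cone_d B y z).symm.trans hd)
  obtain ⟨w, hw, hwz⟩ := h1 _ ha hda
  obtain ⟨v, hv, hvz⟩ := h2 (z.2 - (y : R) • w) (sub_mem hb (B.smul_mem y y.2 _ _ _ hw)) (by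
    rw [map_sub, map_smul, hwz, ← neg_eq_zero, neg_sub, hdb])
  exact ⟨(w, -v), (mem_cone B y).mpr ⟨hw, neg_mem hv⟩,
    (cone_d B y _).trans (Prod.ext hwz (by rw [map_neg, hvz]; abel_nf))⟩

theorem cone_Tor (B : BC R L) (y : L) {y' : R} (hy' : y' ∈ L) (h : B.Tor y') : (cone B y).Tor y' := by
  intro n e z hz hd
  obtain ⟨ha, hb⟩ := (mem_cone B y).mp hz
  obtain ⟨hda, hdb⟩ := Prod.mk_eq_zero.mp ((cone_d B y z).symm.trans hd)
  obtain ⟨N, w, hw, hwz⟩ := h n e _ ha hda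
  have hb' : y' ^ N • z.2 - (y : R) • w ∈ B.C (n - 1) (e + 1 + N) := by
    refine sub_mem (B.smul_pow_mem hy' N hb) ?_
    rw [show e + 1 + (N : ℤ) = e + N + 1 by ring]
    exact B.smul_mem y y.2 _ _ _ hw
  have hdb' : B.d (y' ^ N • z.2 - (y : R) • w) = 0 := by
    rw [map_sub, map_smul, map_smul, hwz, ← sub_eq_zero.mp hdb, smul_comm, sub_self]
  obtain ⟨K, v, hv, hvz⟩ := h _ _ _ hb' hdb'
  refine ⟨K + N, (y' ^ K • w, -v), (mem_cone B y).mpr ⟨?_, neg_mem ?_⟩, (cone_d B y _).trans (Prod.ext ?_ ?_)⟩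
  · rw [Nat.cast_add, ← add_assoc, add_right_comm]
    exact B.smul_pow_mem hy' K hw
  · rw [show e + ((K + N : ℕ) : ℤ) + 1 = e + 1 + N + K by push_cast; ring]
    exact hv
  · rw [map_smul, hwz, pow_add, mul_smul]; rfl
  · rw [map_neg, hvz, pow_add, mul_smul, smul_sub, smul_comm (y : R) (y' ^ K) w]
    abel_nf; rfl

theorem ex_of_cone (B : BC R L) (y : L) {D : ℤ} (h : ∀ n e, D < e + n → (cone B y).Ex n e) (hT : B.Tor y) :
    ∀ n e, D < e + n → B.Ex n e := by
  intro n e he z hz hd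
  obtain ⟨N, hN⟩ := hT n e z hz hd
  induction N generalizing z e with
  | zero =>
    obtain ⟨w, hw, hwz⟩ := hN
    exact ⟨w, by simpa using hw, by simpa using hwz⟩
  | succ N ih =>
    obtain ⟨w, hw, hwz⟩ := hN
    have hw' : w ∈ B.C (n - 1) (e + N + 1) := by rwa [Nat.cast_succ, ← add_assoc] at hw
    obtain ⟨u, hu, huz⟩ := h n (e + N) (by omega) (((y : R) ^ N • z, w) : B.T × B.T)
      ((mem_cone B y).mpr ⟨B.smul_pow_mem y.2 N hz, hw'⟩)
      ((cone_d B y _).trans (Prod.ext (by simp [hd]) (by simp [hwz, pow_succ', mul_smul])))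
    exact ih e he z hz hd ⟨u.1, ((mem_cone B y).mp hu).1, congrArg Prod.fst huz⟩

theorem ex_succ (B : BC R L) (y : L) {n e : ℤ} (h : B.Ex n e) (h' : (cone B y).Ex (n + 1) e) :
    B.Ex n (e + 1) := by
  intro b hb hdb
  obtain ⟨w, hw, hwz⟩ := h' ((0, b) : B.T × B.T) ((mem_cone B y).mpr ⟨zero_mem _, by simpa using hb⟩)
    ((cone_d B y _).trans (Prod.ext (by simp) (by simp [hdb])))
  rw [cone_d, Prod.mk.injEq] at hwz
  obtain ⟨hw1, hw2⟩ := (mem_cone B y).mp hw
  obtain ⟨u, hu, huz⟩ := h w.1 (by simpa using hw1) hwz.1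
  refine ⟨(y : R) • u - w.2, sub_mem (B.smul_mem y y.2 _ _ _ hu) (by simpa using hw2), ?_⟩
  rw [map_sub, map_smul, huz, hwz.2]

/-- iterated cone: the Koszul double complex -/
def coneL : List L → BC R L → BC R L
  | [], B => B
  | y :: ys, B => coneL ys (cone B y)

theorem coneL_append : ∀ (l l' : List L) (B : BC R L), coneL (l ++ l') B = coneL l' (coneL l B)
  | [], _, _ => rfl
  | _ :: l, l', B => coneL_append l l' (cone B _)

theorem coneL_ex : ∀ (l : List L) (B : BC R L) {D : ℤ}, (∀ n e, D < e + n → B.Ex n e) →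
    ∀ n e, D < e + n → (coneL l B).Ex n e
  | [], _, _, h => h
  | y :: l, B, _, h => coneL_ex l (cone B y) fun n e he => cone_ex B y (h n e he) (h _ _ (by omega))

theorem ex_of_coneL : ∀ (l : List L) (B : BC R L) {D : ℤ}, (∀ y ∈ l, B.Tor y) →
    (∀ n e, D < e + n → (coneL l B).Ex n e) → ∀ n e, D < e + n → B.Ex n e
  | [], _, _, _, h => h
  | y :: l, B, _, hT, h => ex_of_cone B y
      (ex_of_coneL l (cone B y) (fun y' hy' => cone_Tor B y y'.2 (hT y' (List.mem_cons_of_mem y hy'))) h)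
      (hT y List.mem_cons_self)

theorem ex_step : ∀ (l : List L) (B : BC R L) (c i₀ : ℤ), (∀ i, i₀ ≤ i → B.Ex i (c - i)) →
    (∀ n e, i₀ + l.length ≤ n → (coneL l B).Ex n e) → ∀ n, i₀ ≤ n → B.Ex n (c - n + 1)
  | [], B, c, i₀, _, h => fun n hn => h n _ (by simpa using hn)
  | y :: l, B, c, i₀, hH, h => by
    intro n hn
    have hc : ∀ i, i₀ + 1 ≤ i → (cone B y).Ex i (c - i) := fun i hi => by
      refine cone_ex B y (hH i (by omega)) ?_
      rw [show c - i + 1 = c - (i - 1) by ring]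
      exact hH (i - 1) (by omega)
    have hI := ex_step l (cone B y) c (i₀ + 1) hc
      (fun m e hm => h m e (by simp only [List.length_cons, Nat.cast_succ]; omega))
      (n + 1) (by omega)
    refine ex_succ B y (hH n hn) ?_
    rwa [show c - (n + 1) + 1 = c - n by ring] at hI

end Groth.Agent.H3CAlg.KC
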