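import Groth.Agent.H3CAlg.KC.Quot
import Groth.Agent.H4Depth.DepthLemmas
import Mathlib.GroupTheory.CosetCover
import Mathlib.FieldTheory.IsAlgClosed.Basic
import Mathlib.RingTheory.Ideal.AssociatedPrime.Finiteness

/-!
# Depth at the irrelevant ideal and the first nonvanishing Koszul cohomology
-/

namespace Groth.Agent.H3CAlg.KC

universe u

open MvPolynomial GrSyz Groth.Agent.H3CAlg.Syz RingTheory.Sequence

section General

variable {R : Type u} [CommRing R] {L : Set R}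

theorem null_cone_ex (B : BC R L) (y : L) (hy : B.Null (y : R)) {n e : ℤ} (h : (cone B y).Ex n e) :
    B.Ex n e ∧ B.Ex (n - 1) (e + 1) := by
  obtain ⟨g, g1, g2⟩ := hy
  constructor
  · intro z hz hd
    obtain ⟨w, hw, hwz⟩ := h ((z, g z) : B.T × B.T) ((mem_cone B y).mpr ⟨hz, g2 _ _ _ hz⟩)
      ((cone_d B y _).trans (Prod.ext hd (by
        show (y : R) • z - B.d (g z) = 0
        rw [← g1 z, hd, map_zero, add_zero, sub_self])))
    exact ⟨w.1, ((mem_cone B y).mp hw).1, congrArg Prod.fst hwz⟩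
  · intro b hb hdb
    obtain ⟨w, hw, hwz⟩ := h ((0, b) : B.T × B.T) ((mem_cone B y).mpr ⟨zero_mem _, hb⟩)
      ((cone_d B y _).trans (Prod.ext (by simp) (by simp [hdb])))
    obtain ⟨hw1, hw2⟩ := (mem_cone B y).mp hw
    have e1 : B.d w.1 = 0 := congrArg Prod.fst hwz
    have e2 : (y : R) • w.1 - B.d w.2 = b := congrArg Prod.snd hwz
    refine ⟨g w.1 - w.2, sub_mem (g2 _ _ _ hw1) hw2, ?_⟩
    rw [map_sub, ← e2, ← g1 w.1, e1, map_zero, add_zero]

theorem neg_bot_cone (B : BC R L) (y : L) (hB : ∀ n < 0, ∀ e, B.C n e = ⊥) :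
    ∀ n < 0, ∀ e, (cone B y).C n e = ⊥ := by
  intro n hn e
  show (B.C n e).prod (B.C (n - 1) (e + 1)) = ⊥
  rw [hB n hn e, hB (n - 1) (by omega) (e + 1), AddSubgroup.bot_prod_bot]

theorem ex_of_bot (B : BC R L) (hB : ∀ n < 0, ∀ e, B.C n e = ⊥) {n : ℤ} (hn : n < 0) (e : ℤ) : B.Ex n e := by
  intro z hz _
  rw [hB n hn e, AddSubgroup.mem_bot] at hz
  exact ⟨0, zero_mem _, by rw [map_zero, hz]⟩

theorem eq_zero_of_ex (B : BC R L) (hB : ∀ n < 0, ∀ e, B.C n e = ⊥) {e : ℤ} {z : B.T} (hz : z ∈ B.C 0 e)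
    (hd : B.d z = 0) (h : B.Ex 0 e) : z = 0 := by
  obtain ⟨w, hw, hwz⟩ := h z hz hd
  rw [hB _ (by norm_num) e, AddSubgroup.mem_bot] at hw
  rw [← hwz, hw, map_zero]

theorem ex_coneL_of_neg : ∀ (l : List L) (B : BC R L), (∀ n < 0, ∀ e, B.C n e = ⊥) →
    ∀ n < 0, ∀ e, (coneL l B).Ex n e
  | [], B, hB, n, hn, e => ex_of_bot B hB hn e
  | y :: l, B, hB, n, hn, e => ex_coneL_of_neg l (cone B y) (neg_bot_cone B y hB) n hn e

theorem eq_zero_of_socle : ∀ (l : List L) (B : BC R L), (∀ n < 0, ∀ e, B.C n e = ⊥) → ∀ {e : ℤ} (z : B.T),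
    z ∈ B.C 0 e → B.d z = 0 → (∀ y ∈ l, ((y : L) : R) • z = 0) → (coneL l B).Ex 0 e → z = 0
  | [], B, hB, e, z, hz, hd, _, h => eq_zero_of_ex B hB hz hd h
  | y :: l, B, hB, e, z, hz, hd, hk, h => by
      have h1 := eq_zero_of_socle l (cone B y) (neg_bot_cone B y hB) ((z, 0) : B.T × B.T)
        ((mem_cone B y).mpr ⟨hz, zero_mem _⟩)
        ((cone_d B y _).trans (Prod.ext hd (by simp [hk y List.mem_cons_self])))
        (fun y' hy' => Prod.ext (hk y' (List.mem_cons_of_mem y hy')) (smul_zero _)) h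
      exact congrArg Prod.fst h1

end General

variable {k : Type u} [Field k] {r : ℕ}
variable {M : Type u} [AddCommGroup M] [Module k M] [Module (MvPolynomial (Fin (r + 1)) k) M]
  [IsScalarTower k (MvPolynomial (Fin (r + 1)) k) M]
  (ℳ : ℤ → Submodule k M) [DirectSum.Decomposition ℳ] [SetLike.GradedSMul (stdGr k (Fin (r + 1))) ℳ]

/-- the first nonvanishing Koszul cohomology of `M / A` sits in degree `t` -/
def Fst (A : Submodule (MvPolynomial (Fin (r + 1)) k) M) (t : ℤ) : Prop :=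
  (∀ n < t, ∀ e, (coneL (vars k r) (quotBC ℳ A)).Ex n e) ∧ ∃ e, ¬ (coneL (vars k r) (quotBC ℳ A)).Ex t e

theorem ex_quot_step (A : Submodule (MvPolynomial (Fin (r + 1)) k) M) (hA : HomogSub ℳ A) (y : Lv k r)
    (hreg : IsSMulRegular (M ⧸ A) (y : MvPolynomial (Fin (r + 1)) k)) (n e : ℤ) :
    (coneL (vars k r) (quotBC ℳ (A ⊔ LinearMap.range ((y : MvPolynomial (Fin (r + 1)) k) •
        (LinearMap.id : M →ₗ[MvPolynomial (Fin (r + 1)) k] M))))).Ex n e ↔
      (coneL (vars k r) (quotBC ℳ A)).Ex (n + 1) (e - 1) ∧ (coneL (vars k r) (quotBC ℳ A)).Ex n e := by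
  have h := (ex_coneL_iff (isQ_quotStepHom ℳ A hA y hreg) (vars k r) (n + 1) (e - 1)).trans
    (ex_coneL_shiftBC _ _ _ _ _ _)
  rw [show n + 1 + -1 = n by ring, show e - 1 + 1 = e by ring, ex_coneL_cone] at h
  rw [← h]
  constructor
  · intro h'
    have := null_cone_ex _ y (null_of_linear (constStable_quotBC ℳ A) y) h'
    rwa [show n + 1 - 1 = n by ring, show e - 1 + 1 = e by ring] at this
  · rintro ⟨h1, h2⟩
    refine cone_ex _ y h1 ?_
    rwa [show n + 1 - 1 = n by ring, show e - 1 + 1 = e by ring]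

theorem Fst.of_step {A : Submodule (MvPolynomial (Fin (r + 1)) k) M} (hA : HomogSub ℳ A) (y : Lv k r)
    (hreg : IsSMulRegular (M ⧸ A) (y : MvPolynomial (Fin (r + 1)) k)) {t : ℤ}
    (h : Fst ℳ (A ⊔ LinearMap.range ((y : MvPolynomial (Fin (r + 1)) k) •
        (LinearMap.id : M →ₗ[MvPolynomial (Fin (r + 1)) k] M))) t) : Fst ℳ A (t + 1) := by
  obtain ⟨h1, e, h2⟩ := h
  have hv : ∀ n < t + 1, ∀ e, (coneL (vars k r) (quotBC ℳ A)).Ex n e := by
    intro n hn e
    have := ((ex_quot_step ℳ A hA y hreg (n - 1) (e + 1)).mp (h1 (n - 1) (by omega) (e + 1))).1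
    rwa [sub_add_cancel, add_sub_cancel_right] at this
  exact ⟨hv, e - 1, fun h => h2 ((ex_quot_step ℳ A hA y hreg t e).mpr ⟨h, hv t (by omega) e⟩)⟩

omit [IsScalarTower k (MvPolynomial (Fin (r + 1)) k) M] [DirectSum.Decomposition ℳ]
  [SetLike.GradedSMul (stdGr k (Fin (r + 1))) ℳ] [Module k M] in
theorem ofList_take_succ (ys : List (MvPolynomial (Fin (r + 1)) k)) {i : ℕ} (hlt : i < ys.length) :
    (Ideal.ofList (ys.take (i + 1)) • ⊤ : Submodule (MvPolynomial (Fin (r + 1)) k) M) =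
      Ideal.ofList (ys.take i) • ⊤ ⊔ LinearMap.range (ys[i] • (LinearMap.id : M →ₗ[MvPolynomial (Fin (r + 1)) k] M)) := by
  rw [List.take_succ_eq_append_getElem hlt, Ideal.ofList_append, Ideal.ofList_singleton, Submodule.sup_smul,
    Submodule.ideal_span_singleton_smul]
  congr 1
  ext z
  simp [Submodule.mem_smul_pointwise_iff_exists]

omit [IsScalarTower k (MvPolynomial (Fin (r + 1)) k) M] in
theorem homogSub_take (ys : List (MvPolynomial (Fin (r + 1)) k)) (hys : ∀ y ∈ ys, y ∈ stdGr k (Fin (r + 1)) 1)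
    (i : ℕ) (hi : i ≤ ys.length) :
    HomogSub ℳ (Ideal.ofList (ys.take i) • ⊤ : Submodule (MvPolynomial (Fin (r + 1)) k) M) := by
  induction i with
  | zero =>
    rw [List.take_zero, Ideal.ofList_nil, Submodule.bot_smul]
    exact homogSub_bot ℳ
  | succ i ih =>
    rw [ofList_take_succ ys (i := i) hi]
    exact (ih (Nat.le_of_succ_le hi)).sup_range ℳ (hys _ (List.getElem_mem _))

theorem fst_of_fst_quot (ys : List (MvPolynomial (Fin (r + 1)) k)) (hys : ∀ y ∈ ys, y ∈ stdGr k (Fin (r + 1)) 1)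
    (hreg : IsWeaklyRegular M ys)
    (h0 : Fst ℳ (Ideal.ofList ys • ⊤ : Submodule (MvPolynomial (Fin (r + 1)) k) M) 0) :
    Fst ℳ (⊥ : Submodule (MvPolynomial (Fin (r + 1)) k) M) ys.length := by
  suffices h : ∀ j, j ≤ ys.length →
      Fst ℳ (Ideal.ofList (ys.take (ys.length - j)) • ⊤ : Submodule (MvPolynomial (Fin (r + 1)) k) M) (j : ℤ) by
    have := h ys.length le_rfl
    rwa [Nat.sub_self, List.take_zero, Ideal.ofList_nil, Submodule.bot_smul] at this
  intro j hj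
  induction j with
  | zero => rw [Nat.sub_zero, List.take_length]; exact h0
  | succ j ih =>
    have hlt : ys.length - (j + 1) < ys.length := by omega
    have h1 := ih (Nat.le_of_succ_le hj)
    rw [show ys.length - j = ys.length - (j + 1) + 1 by omega, ofList_take_succ ys hlt] at h1
    rw [Nat.cast_succ]
    exact Fst.of_step ℳ (homogSub_take ℳ ys hys _ hlt.le) ⟨_, hys _ (List.getElem_mem hlt)⟩
      (hreg.regular_mod_prev _ hlt) h1

include ℳ in
omit [IsScalarTower k (MvPolynomial (Fin (r + 1)) k) M] in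
theorem irrel_smul_top_ne_top [Module.Finite (MvPolynomial (Fin (r + 1)) k) M] [Nontrivial M] :
    (irrel (stdGr k (Fin (r + 1)))).toIdeal • (⊤ : Submodule (MvPolynomial (Fin (r + 1)) k) M) ≠ ⊤ := by
  intro h
  obtain ⟨c, hc, hcz⟩ := Submodule.exists_sub_one_mem_and_smul_eq_zero_of_fg_of_le_smul _ _ Module.Finite.fg_top h.ge
  have hc1 : constantCoeff c = 1 := by
    have := (mem_irrel_iff _).mp hc
    rwa [map_sub, map_one, sub_eq_zero] at this
  obtain ⟨m, hm⟩ := exists_ne (0 : M)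
  obtain ⟨t, ht⟩ := exists_sum_P ℳ m
  apply hm
  rw [ht]
  refine Finset.sum_eq_zero fun e _ => ?_
  have h3 := congrArg (P ℳ e) (hcz (P ℳ e m) Submodule.mem_top)
  rwa [P_smul (stdGr k (Fin (r + 1))) ℳ (P_mem ℳ e m), sub_self, P_zero_eq, hc1, map_one, one_smul, map_zero] at h3

/-- a homogeneous element of `M / A` killed by all variables, when no linear form is regular on it -/
theorem exists_socle [Infinite k] [Module.Finite (MvPolynomial (Fin (r + 1)) k) M]
    (A : Submodule (MvPolynomial (Fin (r + 1)) k) M) (hA : HomogSub ℳ A) [Nontrivial (M ⧸ A)]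
    (hno : ∀ y ∈ stdGr k (Fin (r + 1)) 1, ¬ IsSMulRegular (M ⧸ A) y) :
    ∃ e, ∃ m ∈ ℳ e, m ∉ A ∧ ∀ v, (X v : MvPolynomial (Fin (r + 1)) k) • m ∈ A := by
  have hfin : (associatedPrimes (MvPolynomial (Fin (r + 1)) k) (M ⧸ A)).Finite := associatedPrimes.finite _ _
  let W : associatedPrimes (MvPolynomial (Fin (r + 1)) k) (M ⧸ A) → Submodule k ↥(stdGr k (Fin (r + 1)) 1) :=
    fun p => (p.1.restrictScalars k).comap (stdGr k (Fin (r + 1)) 1).subtype
  haveI := hfin.to_subtype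
  obtain ⟨p, hp⟩ := Subspace.exists_eq_top_of_iUnion_eq_univ (p := W) (Set.eq_univ_of_forall fun y => by
    have hy : (y : MvPolynomial (Fin (r + 1)) k) ∈ ⋃ q ∈ associatedPrimes (MvPolynomial (Fin (r + 1)) k) (M ⧸ A), (q : Set (MvPolynomial (Fin (r + 1)) k)) := by
      rw [biUnion_associatedPrimes_eq_compl_regular]
      exact hno _ y.2
    simp only [Set.mem_iUnion] at hy ⊢
    obtain ⟨q, hq, hyq⟩ := hy
    exact ⟨⟨q, hq⟩, hyq⟩)
  have hX : ∀ v, (X v : MvPolynomial (Fin (r + 1)) k) ∈ p.1 := fun v =>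
    hp.ge (Submodule.mem_top (x := (⟨X v, X_mem_stdGr v⟩ : ↥(stdGr k (Fin (r + 1)) 1))))
  obtain ⟨hprime, q, hq⟩ := Submodule.isAssociatedPrime_iff.mp p.2
  obtain ⟨m, rfl⟩ := Submodule.Quotient.mk_surjective A q
  have hann : ∀ v, (X v : MvPolynomial (Fin (r + 1)) k) • m ∈ A := by
    intro v
    have h1 := hX v
    rw [hq, Submodule.mem_colon_singleton, Submodule.mem_bot, ← Submodule.Quotient.mk_smul,
      Submodule.Quotient.mk_eq_zero] at h1
    exact h1
  obtain ⟨t, ht⟩ := exists_sum_P ℳ m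
  have hne : ∃ e, P ℳ e m ∉ A := by
    by_contra hall
    push Not at hall
    refine hprime.ne_top ((Ideal.eq_top_iff_one _).mpr ?_)
    rw [hq, Submodule.mem_colon_singleton, one_smul, Submodule.mem_bot, Submodule.Quotient.mk_eq_zero, ht]
    exact Submodule.sum_mem _ fun e _ => hall e
  obtain ⟨e, he⟩ := hne
  refine ⟨e, P ℳ e m, P_mem ℳ e m, he, fun v => ?_⟩
  rw [smul_P ℳ (X_mem_stdGr v)]
  exact hA _ _ (hann v)

omit [IsScalarTower k (MvPolynomial (Fin (r + 1)) k) M] [DirectSum.Decomposition ℳ] in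
theorem fst_zero_of_socle {A : Submodule (MvPolynomial (Fin (r + 1)) k) M}
    (h : ∃ e, ∃ m ∈ ℳ e, m ∉ A ∧ ∀ v, (X v : MvPolynomial (Fin (r + 1)) k) • m ∈ A) : Fst ℳ A 0 := by
  have hneg : ∀ n < (0 : ℤ), ∀ e, (quotBC ℳ A).C n e = ⊥ := fun n hn e => if_neg (ne_of_lt hn)
  obtain ⟨e, m, hm, hmA, hk⟩ := h
  refine ⟨ex_coneL_of_neg _ _ hneg, e, fun hex => hmA ?_⟩
  have hmem : (Submodule.Quotient.mk m : M ⧸ A) ∈ (quotBC ℳ A).C 0 e :=
    mem_ofMod.mpr ⟨fun _ => ⟨m, hm, rfl⟩, fun h => absurd rfl h⟩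
  have h0 := eq_zero_of_socle (vars k r) (quotBC ℳ A) hneg (Submodule.Quotient.mk m : M ⧸ A) hmem rfl
    (fun y hy => by
      obtain ⟨v, -, rfl⟩ := List.mem_map.mp hy
      exact (Submodule.Quotient.mk_eq_zero A (x := (X v : MvPolynomial (Fin (r + 1)) k) • m)).mpr (hk v)) hex
  exact (Submodule.Quotient.mk_eq_zero A).mp h0

/-- a regular sequence of linear forms computing the depth -/
theorem exists_linear_regular [Infinite k] [Module.Finite (MvPolynomial (Fin (r + 1)) k) M] [Nontrivial M] :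
    ∃ ys : List (MvPolynomial (Fin (r + 1)) k), (∀ y ∈ ys, y ∈ stdGr k (Fin (r + 1)) 1) ∧ IsWeaklyRegular M ys ∧
      LocCoh.idealDepth (irrel (stdGr k (Fin (r + 1)))).toIdeal M = (ys.length : ℕ∞) ∧
      Fst ℳ (⊥ : Submodule (MvPolynomial (Fin (r + 1)) k) M) ys.length := by
  classical
  set I := (irrel (stdGr k (Fin (r + 1)))).toIdeal
  have hIM := irrel_smul_top_ne_top (r := r) ℳ
  obtain ⟨D, hD⟩ := ENat.ne_top_iff_exists.mp (Groth.Agent.H4Depth.idealDepth_ne_top hIM)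
  let Good : ℕ → Prop := fun t => ∃ ys : List (MvPolynomial (Fin (r + 1)) k),
    ys.length = t ∧ (∀ y ∈ ys, y ∈ stdGr k (Fin (r + 1)) 1) ∧ IsWeaklyRegular M ys
  have hI : ∀ y ∈ stdGr k (Fin (r + 1)) 1, y ∈ I := fun y hy => mem_irrel_of_mem one_ne_zero hy
  have hbd : ∀ t, Good t → t ≤ D := by
    rintro t ⟨ys, rfl, h1, h2⟩
    have := Groth.Agent.H4Depth.length_le_idealDepth (I := I) h2 fun y hy => hI y (h1 y hy)
    rw [← hD] at this
    exact_mod_cast this
  obtain ⟨ys, hlen, h1, h2⟩ : Good (Nat.findGreatest Good D) :=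
    Nat.findGreatest_spec (P := Good) (Nat.zero_le D) ⟨[], rfl, by simp, IsWeaklyRegular.nil _ _⟩
  haveI : Nontrivial (M ⧸ (Ideal.ofList ys • ⊤ : Submodule (MvPolynomial (Fin (r + 1)) k) M)) :=
    Submodule.Quotient.nontrivial_iff.mpr (Groth.Agent.H4Depth.ofList_smul_top_ne_top hIM fun y hy => hI y (h1 y hy)).symm
  have hA : HomogSub ℳ (Ideal.ofList ys • ⊤ : Submodule (MvPolynomial (Fin (r + 1)) k) M) := by
    have := homogSub_take ℳ ys h1 ys.length le_rfl
    rwa [List.take_length] at this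
  have hmax : ∀ y ∈ stdGr k (Fin (r + 1)) 1,
      ¬ IsSMulRegular (M ⧸ (Ideal.ofList ys • ⊤ : Submodule (MvPolynomial (Fin (r + 1)) k) M)) y := by
    intro y hy hr
    have hG : Good (ys.length + 1) := by
      refine ⟨ys ++ [y], by simp, ?_, ?_⟩
      · intro y' hy'
        rcases List.mem_append.mp hy' with h | h
        · exact h1 y' h
        · rwa [List.mem_singleton.mp h]
      · exact (isWeaklyRegular_append_iff M ys [y]).mpr ⟨h2, (isWeaklyRegular_singleton_iff _ y).mpr hr⟩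
    have := Nat.le_findGreatest (hbd _ hG) hG
    omega
  obtain ⟨e, m, hm, hmA, hk⟩ := exists_socle ℳ _ hA hmax
  refine ⟨ys, h1, h2, ?_, fst_of_fst_quot ℳ ys h1 h2 (fst_zero_of_socle ℳ ⟨e, m, hm, hmA, hk⟩)⟩
  refine (Groth.Agent.H4Depth.length_eq_idealDepth_of_maximal hIM h2 (fun y hy => hI y (h1 y hy)) ?_).symm
  intro y hy hreg
  have hr := (isWeaklyRegular_singleton_iff _ y).mp ((isWeaklyRegular_append_iff M ys [y]).mp hreg).2
  have hym : y • m ∈ (Ideal.ofList ys • ⊤ : Submodule (MvPolynomial (Fin (r + 1)) k) M) := by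
    have h3 : firstVars k r (r + 1) ≤ Submodule.comap (LinearMap.toSpanSingleton (MvPolynomial (Fin (r + 1)) k) M m)
        (Ideal.ofList ys • ⊤) := by
      rw [firstVars, Ideal.span_le]
      rintro _ ⟨v, -, rfl⟩
      simpa using hk v
    simpa using h3 (by rw [firstVars_top]; exact hy)
  refine hmA ((Submodule.Quotient.mk_eq_zero _).mp (hr ?_))
  show y • (Submodule.Quotient.mk m : M ⧸ (Ideal.ofList ys • ⊤ : Submodule (MvPolynomial (Fin (r + 1)) k) M)) = y • 0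
  rw [smul_zero, ← Submodule.Quotient.mk_smul, Submodule.Quotient.mk_eq_zero]
  exact hym

/-- depth at the irrelevant ideal is the first nonvanishing degree of Koszul cohomology -/
theorem exists_idealDepth_fst [Infinite k] [Module.Finite (MvPolynomial (Fin (r + 1)) k) M] [Nontrivial M] :
    ∃ t : ℕ, LocCoh.idealDepth (irrel (stdGr k (Fin (r + 1)))).toIdeal M = (t : ℕ∞) ∧
      Fst ℳ (⊥ : Submodule (MvPolynomial (Fin (r + 1)) k) M) t := by
  obtain ⟨ys, -, -, h3, h4⟩ := exists_linear_regular (r := r) ℳ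
  exact ⟨ys.length, h3, h4⟩

theorem ex_quot_bot_iff (n e : ℤ) :
    (coneL (vars k r) (quotBC ℳ (⊥ : Submodule (MvPolynomial (Fin (r + 1)) k) M))).Ex n e ↔
      (coneL (vars k r) (modBC (r := r) ℳ)).Ex n e := by
  refine (ex_coneL_iff (φ := modHom (Submodule.mkQ ⊥) fun e z hz => AddSubgroup.mem_map_of_mem _ hz)
    (isQ_of_bij ?_ ?_) _ n e).symm
  · exact fun a b h => by
      have := (Submodule.Quotient.eq (⊥ : Submodule (MvPolynomial (Fin (r + 1)) k) M)).mp h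
      rwa [Submodule.mem_bot, sub_eq_zero] at this
  · intro n e z hz
    rcases eq_or_ne n 0 with hn | hn
    · obtain ⟨m, hm, rfl⟩ := (mem_ofMod.mp hz).1 hn
      exact ⟨m, mem_ofMod.mpr ⟨fun _ => hm, fun h => absurd hn h⟩, rfl⟩
    · exact ⟨0, zero_mem _, by rw [map_zero, (mem_ofMod.mp hz).2 hn]⟩

/-- Auslander–Buchsbaum for graded modules over a polynomial ring over an infinite field -/
theorem length_add_idealDepth [Infinite k] [Module.Finite (MvPolynomial (Fin (r + 1)) k) M]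
    (F : FreeRes (stdGr k (Fin (r + 1))) ℳ) (hF : F.IsMinimal (irrel (stdGr k (Fin (r + 1)))).toIdeal)
    {ℓ : ℕ} (hℓ : F.HasLengthLE ℓ) (hℓ' : F.rk ℓ ≠ 0) :
    (ℓ : ℕ∞) + LocCoh.idealDepth (irrel (stdGr k (Fin (r + 1)))).toIdeal M = ((r + 1 : ℕ) : ℕ∞) := by
  let b : Fin (F.rk ℓ) := ⟨0, Nat.pos_of_ne_zero hℓ'⟩
  have hle : ℓ ≤ r + 1 := by
    by_contra h
    exact hℓ' (hasLengthLE_of_isMinimal F hF ℓ (not_le.mp h))
  haveI : Nontrivial M := by
    by_contra hnt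
    rw [not_nontrivial_iff_subsingleton] at hnt
    exact (ex_iff_deg F hF _ (F.deg ℓ b - ((r + 1 : ℕ) : ℤ))).mp (coneL_ex (vars k r) (modBC (r := r) ℳ)
      (D := ((r + 1 : ℕ) : ℤ) - ℓ + (F.deg ℓ b - ((r + 1 : ℕ) : ℤ)) - 1)
      (fun n e _ z hz _ => ⟨0, zero_mem _, Subsingleton.elim _ _⟩) _ _ (by omega)) ℓ b rfl (by ring)
  obtain ⟨t, ht, hvan, e, hne⟩ := exists_idealDepth_fst (r := r) ℳ
  rw [ht]
  rw [ex_quot_bot_iff, ex_iff_deg F hF] at hne
  push Not at hne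
  obtain ⟨i, a, hi, -⟩ := hne
  have h1 : i ≤ ℓ := by
    by_contra h
    exact (Fin.cast (hℓ i (not_le.mp h)) a).elim0
  have h2 : ¬ (((r + 1 : ℕ) : ℤ) - ℓ < t) := fun h => by
    have := (ex_quot_bot_iff ℳ _ _).mp (hvan _ h (F.deg ℓ b - ((r + 1 : ℕ) : ℤ)))
    exact (ex_iff_deg F hF _ _).mp this ℓ b rfl (by ring)
  rw [← Nat.cast_add, Nat.cast_inj]
  omega

end Groth.Agent.H3CAlg.KC
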