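import Groth.Prelude.Def_GrLC
import Groth.Agent.H3CAlg.Syz.Basic

/-!
# Graded modules from component maps; divisibility in *injective modules
-/

namespace Groth.Agent.H3CAlg.KC

universe u

open DirectSum Groth.Agent.H3CAlg.Syz

variable {R : Type u} [CommRing R] {σ' : Type u} [SetLike σ' R] [AddSubgroupClass σ' R] (𝒜 : ℤ → σ') [GradedRing 𝒜]

section Proj

variable {N : Type u} [AddCommGroup N] [Module R N] (Q : ℤ → N →+ N)

/-- fixed points of a component map -/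
def fixPiece (j : ℤ) : AddSubgroup N := AddMonoidHom.eqLocus (Q j) (AddMonoidHom.id N)

omit [Module R N] in
theorem mem_fixPiece {j : ℤ} {x : N} : x ∈ fixPiece Q j ↔ Q j x = x := Iff.rfl

variable {𝒜 Q}

theorem isInternal_fixPiece (hQ : IsProj 𝒜 Q) : DirectSum.IsInternal (fixPiece Q) := by
  classical
  refine ⟨fun f g hfg => ?_, fun x => ?_⟩
  · have key : ∀ (h : ⨁ j, fixPiece Q j) (j : ℤ),
        Q j (DirectSum.coeAddMonoidHom (fixPiece Q) h) = (h j : N) := by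
      intro h j
      induction h using DirectSum.induction_on with
      | zero => simp
      | of i x =>
        rw [DirectSum.coeAddMonoidHom_of, DirectSum.coe_of_apply]
        conv_lhs => rw [← (mem_fixPiece Q).mp x.2, hQ.comp, (mem_fixPiece Q).mp x.2]
        split_ifs <;> simp_all
      | add a b ha hb => rw [map_add, map_add, ha, hb, DirectSum.add_apply]; rfl
    refine DFinsupp.ext fun j => Subtype.ext ?_
    rw [← key f j, ← key g j, hfg]
  · obtain ⟨s, hs⟩ := hQ.exists_sum x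
    refine ⟨∑ j ∈ s, DirectSum.of (fun j => fixPiece Q j) j ⟨Q j x, (mem_fixPiece Q).mpr (by rw [hQ.comp, if_pos rfl])⟩, ?_⟩
    rw [map_sum]
    conv_rhs => rw [hs]
    exact Finset.sum_congr rfl fun j _ => DirectSum.coeAddMonoidHom_of _ _ _

theorem gradedSMul_fixPiece (hQ : IsProj 𝒜 Q) : SetLike.GradedSMul 𝒜 (fixPiece Q) :=
  ⟨fun {i j a x} ha hx => by
    rw [mem_fixPiece, vadd_eq_add, hQ.smul a j x hx, add_sub_cancel_right, P_of_mem 𝒜 ha, if_pos rfl]⟩

/-- the graded module given by component maps -/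
@[implicit_reducible]
noncomputable def gmodOfProj (hQ : IsProj 𝒜 Q) : GrLC.GMod.{u} 𝒜 :=
  { carrier := N
    gr := fixPiece Q
    dec := (isInternal_fixPiece hQ).chooseDecomposition
    gsmul := gradedSMul_fixPiece hQ }

end Proj

variable {𝒜}

/-- `R` shifted to have its generator in degree `c` -/
def shiftQ (c : ℤ) (j : ℤ) : R →+ R := P 𝒜 (j - c)

theorem isProj_shiftQ (c : ℤ) : IsProj 𝒜 (shiftQ (𝒜 := 𝒜) c) where
  smul a e x hx j := by
    show P 𝒜 (j - c) (a * x) = _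
    rw [← smul_eq_mul, P_smul 𝒜 𝒜 ((P_eq_self_iff 𝒜).mp hx) a, show j - c - (e - c) = j - e by ring]
  exists_sum x := by
    classical
    obtain ⟨s, hs⟩ := exists_sum_P 𝒜 x
    refine ⟨s.image (· + c), ?_⟩
    rw [Finset.sum_image fun i _ l _ h => add_right_cancel h]
    conv_lhs => rw [hs]
    exact Finset.sum_congr rfl fun i _ => by rw [shiftQ, add_sub_cancel_right]
  comp i j x := by
    show P 𝒜 (i - c) (P 𝒜 (j - c) x) = _
    rw [P_of_mem 𝒜 (P_mem 𝒜 _ x)]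
    by_cases h : j = i
    · rw [if_pos h, if_pos (by omega)]; rfl
    · rw [if_neg h, if_neg (by omega)]

/-- restriction of component maps to a stable submodule -/
def restrictQ {N : Type u} [AddCommGroup N] [Module R N] (Q : ℤ → N →+ N) (K : Submodule R N)
    (hK : ∀ j, ∀ x ∈ K, Q j x ∈ K) (j : ℤ) : K →+ K :=
  AddMonoidHom.mk' (fun x => ⟨Q j x, hK j x x.2⟩) fun x y => Subtype.ext (map_add (Q j) (x : N) y)

theorem isProj_restrictQ {N : Type u} [AddCommGroup N] [Module R N] {Q : ℤ → N →+ N} (hQ : IsProj 𝒜 Q)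
    (K : Submodule R N) (hK : ∀ j, ∀ x ∈ K, Q j x ∈ K) : IsProj 𝒜 (restrictQ Q K hK) where
  smul a e x hx j := Subtype.ext (hQ.smul a e x (congrArg Subtype.val hx) j)
  exists_sum x := by
    obtain ⟨s, hs⟩ := hQ.exists_sum x
    refine ⟨s, Subtype.ext ?_⟩
    rw [AddSubmonoidClass.coe_finset_sum]
    exact hs
  comp i j x := Subtype.ext (by
    show Q i (Q j x) = _
    rw [hQ.comp, apply_ite (Subtype.val : K → N)]
    rfl)

section Map

variable {M N : Type u} [AddCommGroup M] [AddCommGroup N] {τ : Type u} [SetLike τ M] [AddSubgroupClass τ M]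
  {τ' : Type u} [SetLike τ' N] [AddSubgroupClass τ' N] (ℳ : ℤ → τ) (𝒩 : ℤ → τ')
  [DirectSum.Decomposition ℳ] [DirectSum.Decomposition 𝒩] [Module R M] [Module R N]

theorem map_P (f : M →ₗ[R] N) (hf : GrLC.IsGrHom ℳ 𝒩 f) (j : ℤ) (x : M) : f (P ℳ j x) = P 𝒩 j (f x) := by
  obtain ⟨s, hs⟩ := exists_sum_P ℳ x
  conv_lhs => rw [hs, map_sum, map_sum]
  conv_rhs => rw [hs, map_sum, map_sum]
  refine Finset.sum_congr rfl fun i _ => ?_
  rw [P_of_mem 𝒩 (hf i _ (P_mem ℳ i x)), P_of_mem ℳ (P_mem ℳ i x)]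
  split_ifs <;> simp

theorem exists_homog_preimage (f : M →ₗ[R] N) (hf : GrLC.IsGrHom ℳ 𝒩 f) {j : ℤ} {y : N} (hy : y ∈ 𝒩 j)
    {x : M} (h : f x = y) : ∃ x' ∈ ℳ j, f x' = y :=
  ⟨P ℳ j x, P_mem ℳ j x, by rw [map_P ℳ 𝒩 f hf, h, P_of_mem 𝒩 hy, if_pos rfl]⟩

end Map

theorem exists_colon_stable [IsNoetherianRing R] (J : Ideal R) (y : R) :
    ∃ N : ℕ, ∀ r, y ^ (N + 1) * r ∈ J → y ^ N * r ∈ J := by
  let f : ℕ →o Ideal R :=
    { toFun := fun n => Submodule.comap (LinearMap.mulLeft R (y ^ n)) J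
      monotone' := monotone_nat_of_le_succ fun n r hr => by
        show y ^ (n + 1) * r ∈ J
        rw [pow_succ', mul_assoc]
        exact J.mul_mem_left _ hr }
  obtain ⟨N, hN⟩ := monotone_stabilizes_iff_noetherian.mpr (inferInstance : IsNoetherianRing R) f
  exact ⟨N, fun r hr => (hN (N + 1) (Nat.le_succ N)).ge hr⟩

/-- divisibility by a degree-one element in a *injective module, modulo torsion -/
theorem starInj_div [IsNoetherianRing R] {X : Type u} [AddCommGroup X] [Module R X]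
    (𝒳 : ℤ → AddSubgroup X) [DirectSum.Decomposition 𝒳] [SetLike.GradedSMul 𝒜 𝒳]
    (hX : GrLC.IsStarInj 𝒜 𝒳) (J : Ideal R) (hJ : J.IsHomogeneous 𝒜) {y : R} (hy : y ∈ 𝒜 1) {e : ℤ} {z : X}
    (hz : z ∈ 𝒳 (e + 1)) (hJz : ∀ a ∈ J, a • z = 0) :
    ∃ (N : ℕ) (q : X), q ∈ 𝒳 e ∧ (∀ a ∈ J, a • q = 0) ∧ y ^ (N + 1) • q = y ^ N • z := by
  classical
  obtain ⟨N, hN⟩ := exists_colon_stable J y
  let I : Ideal R := Ideal.span {y ^ (N + 1)} ⊔ J
  have hyN : ∀ n : ℕ, y ^ n ∈ 𝒜 (n : ℤ) := fun n => by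
    simpa using SetLike.pow_mem_graded (A := 𝒜) n hy
  have hIhom : I.IsHomogeneous 𝒜 :=
    Ideal.IsHomogeneous.sup (Ideal.homogeneous_span 𝒜 _ fun x hx => ⟨_, (Set.mem_singleton_iff.mp hx) ▸ hyN (N + 1)⟩) hJ
  have hstab : ∀ j, ∀ x ∈ I, shiftQ (𝒜 := 𝒜) e j x ∈ I := fun j x hx => hIhom (j - e) hx
  have hA := isProj_restrictQ (isProj_shiftQ (𝒜 := 𝒜) e) I hstab
  have hB := isProj_shiftQ (𝒜 := 𝒜) e
  have hex : ∀ x ∈ I, ∃ r : R, x - y ^ (N + 1) * r ∈ J := fun x hx => by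
    obtain ⟨a, ha, b, hb, rfl⟩ := Submodule.mem_sup.mp hx
    obtain ⟨r, rfl⟩ := Ideal.mem_span_singleton'.mp ha
    exact ⟨r, by rwa [mul_comm, add_sub_cancel_left]⟩
  choose rr hrr using hex
  have hwd : ∀ (x : R) (hx : x ∈ I) (r : R), x - y ^ (N + 1) * r ∈ J →
      (y ^ N * rr x hx) • z = (y ^ N * r) • z := by
    intro x hx r hr
    rw [← sub_eq_zero, ← sub_smul, ← mul_sub]
    refine hJz _ (hN _ ?_)
    rw [show y ^ (N + 1) * (rr x hx - r) = (x - y ^ (N + 1) * r) - (x - y ^ (N + 1) * rr x hx) by ring]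
    exact sub_mem hr (hrr x hx)
  let g : I →ₗ[R] X :=
    { toFun := fun x => (y ^ N * rr x x.2) • z
      map_add' := fun a b => by
        rw [hwd _ (a + b).2 (rr a a.2 + rr b b.2) ?_, mul_add, add_smul]
        rw [Submodule.coe_add, show (a : R) + b - y ^ (N + 1) * (rr a a.2 + rr b b.2) =
          ((a : R) - y ^ (N + 1) * rr a a.2) + ((b : R) - y ^ (N + 1) * rr b b.2) by ring]
        exact add_mem (hrr a a.2) (hrr b b.2)
      map_smul' := fun c a => by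
        rw [RingHom.id_apply, hwd _ (c • a).2 (c * rr a a.2) ?_, smul_smul]
        · ring_nf
        · rw [Submodule.coe_smul, smul_eq_mul, show c * (a : R) - y ^ (N + 1) * (c * rr a a.2) =
            c * ((a : R) - y ^ (N + 1) * rr a a.2) by ring]
          exact J.mul_mem_left _ (hrr a a.2) }
  have hg : GrLC.IsGrHom (gmodOfProj hA).gr 𝒳 g := by
    intro j x hx
    have hxj : (x : R) ∈ 𝒜 (j - e) := (P_eq_self_iff 𝒜).mp (congrArg Subtype.val hx)
    have hr : (x : R) - y ^ (N + 1) * P 𝒜 (j - e - ((N + 1 : ℕ) : ℤ)) (rr x x.2) ∈ J := by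
      have h1 : P 𝒜 (j - e) ((x : R) - y ^ (N + 1) * rr x x.2) ∈ J := hJ _ (hrr x x.2)
      rwa [map_sub, P_of_mem 𝒜 hxj, if_pos rfl, mul_comm (y ^ (N + 1)), ← smul_eq_mul, P_smul 𝒜 𝒜 (hyN (N + 1)),
        smul_eq_mul, mul_comm _ (y ^ (N + 1))] at h1
    show (y ^ N * rr x x.2) • z ∈ 𝒳 j
    rw [hwd x x.2 _ hr]
    have h2 : y ^ N * P 𝒜 (j - e - ((N + 1 : ℕ) : ℤ)) (rr x x.2) ∈ 𝒜 ((N : ℤ) + (j - e - ((N + 1 : ℕ) : ℤ))) :=
      SetLike.mul_mem_graded (hyN N) (P_mem 𝒜 _ _)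
    have h3 := SetLike.GradedSMul.smul_mem (A := 𝒜) (B := 𝒳) h2 hz
    rwa [vadd_eq_add, show (N : ℤ) + (j - e - ((N + 1 : ℕ) : ℤ)) + (e + 1) = j by push_cast; ring] at h3
  obtain ⟨h, hh, hcomp⟩ := hX (gmodOfProj hA) (gmodOfProj hB) I.subtype
    (fun j x hx => congrArg Subtype.val hx) Subtype.val_injective g hg
  have hval : ∀ x : I, h (x : R) = g x := fun x => LinearMap.congr_fun hcomp x
  have hlin : ∀ x : R, h x = x • h (1 : R) := fun x => by
    conv_lhs => rw [← mul_one x, ← smul_eq_mul]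
    exact map_smul h x (1 : R)
  refine ⟨N, h (1 : R), hh e (1 : R) ?_, fun a ha => ?_, ?_⟩
  · show P 𝒜 (e - e) (1 : R) = 1
    rw [sub_self, P_of_mem 𝒜 SetLike.GradedOne.one_mem, if_pos rfl]
  · have haI : a ∈ I := le_sup_right (a := Ideal.span {y ^ (N + 1)}) ha
    rw [← hlin, hval ⟨a, haI⟩]
    show (y ^ N * rr a haI) • z = 0
    rw [hwd a haI 0 (by simpa using ha), mul_zero, zero_smul]
  · have hyI : y ^ (N + 1) ∈ I := le_sup_left (b := J) (Ideal.mem_span_singleton_self _)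
    rw [← hlin, hval ⟨_, hyI⟩]
    show (y ^ N * rr _ hyI) • z = _
    rw [hwd _ hyI 1 (by simp), mul_one]

end Groth.Agent.H3CAlg.KC
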