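import Groth.Agent.H3CAlg.KC.Quot

/-!
# Iterated linear syzygy modules and vanishing of graded Betti numbers
-/

namespace Groth.Agent.H3CAlg.KC

universe u

open MvPolynomial GrSyz Groth.Agent.H3CAlg.Syz

section General

variable {R : Type u} [CommRing R] {L : Set R}

theorem coneL_ex_diag : ∀ (l : List L) (B : BC R L) {D : ℤ}, (∀ n e, e + n = D → B.Ex n e) →
    ∀ n e, e + n = D → (coneL l B).Ex n e
  | [], _, _, h => h
  | y :: l, B, _, h => coneL_ex_diag l (cone B y) fun n e he => cone_ex B y (h n e he) (h _ _ (by omega))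

theorem ex_above : ∀ (l : List L) (B : BC R L) {N : ℤ}, (∀ n, N < n → ∀ e, B.C n e = ⊥) →
    ∀ n, N + l.length < n → ∀ e, (coneL l B).Ex n e
  | [], B, N, hB, n, hn, e => by
    intro z hz _
    change z ∈ B.C n e at hz
    have h : B.C n e = ⊥ := hB n (by simpa using hn) e
    exact ⟨0, zero_mem _, by rw [map_zero]; exact ((AddSubgroup.eq_bot_iff_forall _).mp h z hz).symm⟩
  | y :: l, B, N, hB, n, hn, e => ex_above l (cone B y) (N := N + 1) (fun m hm e' => by
      show (B.C m e').prod (B.C (m - 1) (e' + 1)) = ⊥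
      rw [hB m (by omega) e', hB (m - 1) (by omega) (e' + 1), AddSubgroup.bot_prod_bot])
      n (by simp only [List.length_cons, Nat.cast_succ] at hn; omega) e

/-- `φ` is a combination of morphisms of degree `-1` with coefficients `c` -/
def Factor {ι : Type} [Fintype ι] (c : ι → R) {B B' : BC R L} (φ : Hom B B') : Prop :=
  ∃ f : ι → (B.T →ₗ[R] B'.T), (∀ v z, f v (B.d z) = B'.d (f v z)) ∧
    (∀ v n e z, z ∈ B.C n e → f v z ∈ B'.C n (e - 1)) ∧ ∀ z, φ.f z = ∑ v, c v • f v z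

theorem Factor.cone {ι : Type} [Fintype ι] {c : ι → R} {B B' : BC R L} {φ : Hom B B'} (h : Factor c φ) (y : L) :
    Factor c (φ.cone y) := by
  obtain ⟨f, h1, h2, h3⟩ := h
  refine ⟨fun v => (f v).prodMap (f v), fun v z => Prod.ext (h1 v _) ?_, fun v n e z hz => ?_, fun z => ?_⟩
  · show f v ((y : R) • z.1 - B.d z.2) = (y : R) • f v z.1 - B'.d (f v z.2)
    rw [map_sub, map_smul, h1]
  · obtain ⟨ha, hb⟩ := (mem_cone B y).mp hz
    refine (mem_cone B' y).mpr ⟨h2 v n e _ ha, ?_⟩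
    show f v z.2 ∈ B'.C (n - 1) (e - 1 + 1)
    rw [show e - 1 + 1 = e + 1 - 1 by ring]
    exact h2 v _ _ _ hb
  · refine Prod.ext ?_ ?_
    · rw [Prod.fst_sum]; exact h3 z.1
    · rw [Prod.snd_sum]; exact h3 z.2

theorem Factor.coneL {ι : Type} [Fintype ι] {c : ι → R} : ∀ (l : List L) {B B' : BC R L} {φ : Hom B B'},
    Factor c φ → Factor c (φ.coneL l)
  | [], _, _, _, h => h
  | z :: l, _, _, _, h => Factor.coneL l (h.cone z)

theorem Hom.cone_inj {B B' : BC R L} {φ : Hom B B'} (h : Function.Injective φ.f) (y : L) :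
    Function.Injective (φ.cone y).f := Function.Injective.prodMap h h

/-- the chase: `A ⊆ W` with quotient `Q`, and `Mid ↠ A` with kernel `Z` -/
theorem ex_of_chase {ι : Type} [Fintype ι] {c : ι → R} {Z Mid A W Q : BC R L} {κ : Hom Z Mid} {ψ : Hom Mid A}
    {ι' : Hom A W} {π : Hom W Q} {χ : Hom Mid W} (h1 : IsShort κ ψ) (h2 : IsShort ι' π)
    (hχ : ∀ z, χ.f z = ι'.f (ψ.f z)) (hf : Factor c χ) (hnull : ∀ v, W.Null (c v)) {n e : ℤ}
    (hQ : Q.Ex n e) (hZ : Z.Ex (n + 1) e) : W.Ex n e := by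
  intro z hz hd
  obtain ⟨q, hq, hqz⟩ := hQ _ (π.mem _ _ _ hz) (by rw [← π.comm, hd, map_zero])
  obtain ⟨v, hv, rfl⟩ := h2.2.2.1 _ _ q hq
  obtain ⟨a, ha, haz⟩ := h2.2.1 n e (z - W.d v) (sub_mem hz (W.d_mem' hv))
    (by rw [map_sub, π.comm, hqz, sub_self])
  obtain ⟨g, hg, rfl⟩ := h1.2.2.1 _ _ a ha
  have hψ : ψ.f (Mid.d g) = 0 := h2.1 (by
    rw [ψ.comm, ι'.comm, haz, map_sub, W.d_d, hd, sub_zero, map_zero])
  obtain ⟨b, hb, hbz⟩ := h1.2.1 _ _ (Mid.d g) (Mid.d_mem _ _ _ hg) hψ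
  obtain ⟨b', hb', hbz'⟩ := hZ b hb (h1.1 (by rw [κ.comm, hbz, Mid.d_d, map_zero]))
  let g' := g - κ.f b'
  have hg' : g' ∈ Mid.C n e := sub_mem hg (κ.mem _ _ _ (by simpa using hb'))
  have hdg' : Mid.d g' = 0 := by rw [map_sub, ← κ.comm, hbz', hbz, sub_self]
  obtain ⟨f, f1, f2, f3⟩ := hf
  choose h hh1 hh2 using hnull
  refine ⟨v + ∑ i, h i (f i g'), add_mem hv (AddSubgroup.sum_mem _ fun i _ => ?_), ?_⟩
  · have := hh2 i _ _ _ (f2 i n e g' hg')
    rwa [sub_add_cancel] at this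
  · have key : ∀ i, W.d (h i (f i g')) = c i • f i g' := fun i => by
      rw [← hh1 i (f i g'), ← f1, hdg', map_zero, map_zero, add_zero]
    rw [map_add, map_sum, Finset.sum_congr rfl fun i _ => key i, ← f3, hχ, map_sub, h1.2.2.2, sub_zero, haz,
      add_sub_cancel]

end General

variable {k : Type u} [Field k] {r : ℕ}
variable {M : Type u} [AddCommGroup M] [Module k M] [Module (MvPolynomial (Fin (r + 1)) k) M]
  (ℳ : ℤ → Submodule k M) [DirectSum.Decomposition ℳ] [SetLike.GradedSMul (stdGr k (Fin (r + 1))) ℳ]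

/-- the `i`-fold iterated module of linear syzygies -/
def iterSyz (i : ℕ) : Submodule (MvPolynomial (Fin (r + 1)) k) ((Fin i → Fin (r + 1)) → M) where
  carrier := {m | ∀ (s : Fin i) (c : Fin i → Fin (r + 1)),
    ∑ v : Fin (r + 1), (X v : MvPolynomial (Fin (r + 1)) k) • m (Function.update c s v) = 0}
  zero_mem' s c := by simp
  add_mem' ha hb s c := by
    simp only [Pi.add_apply, smul_add, Finset.sum_add_distrib, ha s c, hb s c, add_zero]
  smul_mem' a m hm s c := by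
    simp only [Pi.smul_apply]
    rw [Finset.sum_congr rfl fun v _ => smul_comm _ a _, ← Finset.smul_sum, hm s c, smul_zero]

omit [DirectSum.Decomposition ℳ] [SetLike.GradedSMul (stdGr k (Fin (r + 1))) ℳ] [Module k M] in
theorem mem_iterSyz {i : ℕ} {m : (Fin i → Fin (r + 1)) → M} : m ∈ iterSyz (k := k) i ↔
    ∀ (s : Fin i) (c : Fin i → Fin (r + 1)),
      ∑ v : Fin (r + 1), (X v : MvPolynomial (Fin (r + 1)) k) • m (Function.update c s v) = 0 := Iff.rfl

/-- degree `e` elements -/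
def iterPiece (i : ℕ) (e : ℤ) : AddSubgroup (iterSyz (k := k) (r := r) (M := M) i) where
  carrier := {m | ∀ c, m.1 c ∈ ℳ (e - i)}
  zero_mem' _ := zero_mem _
  add_mem' ha hb c := add_mem (ha c) (hb c)
  neg_mem' ha c := neg_mem (ha c)

omit [DirectSum.Decomposition ℳ] in
theorem iterPiece_smul (i : ℕ) : ∀ y ∈ Lv k r, ∀ e z, z ∈ iterPiece (r := r) ℳ i e → y • z ∈ iterPiece (r := r) ℳ i (e + 1) :=
  fun y hy e z hz c => by
    show y • z.1 c ∈ ℳ (e + 1 - i)
    rw [show e + 1 - (i : ℤ) = e - i + 1 by ring]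
    exact smul_mem_piece ℳ hy (hz c)

/-- the components of an element -/
noncomputable def iterP (i : ℕ) (e : ℤ) : iterSyz (k := k) (r := r) (M := M) i →+ iterSyz (k := k) (r := r) (M := M) i :=
  AddMonoidHom.mk' (fun m => ⟨fun c => P ℳ (e - i) (m.1 c), fun s c => by
    have h := congrArg (P ℳ (e - i + 1)) (m.2 s c)
    rw [map_sum, map_zero] at h
    rw [← h]
    refine Finset.sum_congr rfl fun v _ => ?_
    rw [P_smul_linear ℳ (X_mem_stdGr v), add_sub_cancel_right]⟩)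
    fun a b => Subtype.ext (funext fun c => map_add (P ℳ (e - i)) (a.1 c) (b.1 c))

theorem iterP_mem (i : ℕ) (e : ℤ) (m : iterSyz (k := k) (r := r) (M := M) i) : iterP ℳ i e m ∈ iterPiece ℳ i e :=
  fun _ => P_mem ℳ _ _

theorem iterP_of_mem {i : ℕ} {e : ℤ} {m : iterSyz (k := k) (r := r) (M := M) i} (hm : m ∈ iterPiece ℳ i e) :
    iterP ℳ i e m = m :=
  Subtype.ext (funext fun c => (P_eq_self_iff ℳ).mpr (hm c))

/-- contraction: `(Z_i)^{r+1} → Z_i` -/
noncomputable def contr (i : ℕ) : (Fin (r + 1) → iterSyz (k := k) (r := r) (M := M) i) →ₗ[MvPolynomial (Fin (r + 1)) k]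
    iterSyz (k := k) (r := r) (M := M) i :=
  ∑ v, (X v : MvPolynomial (Fin (r + 1)) k) • LinearMap.proj v

omit [DirectSum.Decomposition ℳ] [SetLike.GradedSMul (stdGr k (Fin (r + 1))) ℳ] [Module k M] in
theorem contr_apply (i : ℕ) (w : Fin (r + 1) → iterSyz (k := k) (r := r) (M := M) i) :
    contr i w = ∑ v, (X v : MvPolynomial (Fin (r + 1)) k) • w v := by
  simp [contr]

omit [DirectSum.Decomposition ℳ] [SetLike.GradedSMul (stdGr k (Fin (r + 1))) ℳ] [Module k M] in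
theorem X_smul_mem_range (i : ℕ) (v : Fin (r + 1)) (m : iterSyz (k := k) (r := r) (M := M) i) :
    (X v : MvPolynomial (Fin (r + 1)) k) • m ∈ LinearMap.range (contr i) := by
  refine ⟨Pi.single v m, ?_⟩
  rw [contr_apply, Finset.sum_eq_single v (fun w _ hw => by rw [Pi.single_eq_of_ne hw, smul_zero])
    (fun h => absurd (Finset.mem_univ v) h), Pi.single_eq_same]

/-- generation in degrees at most `d` -/
def GenLE (i : ℕ) (d : ℤ) : Prop :=
  ∀ m ∈ iterSyz (k := k) (r := r) (M := M) i, m ∈ Submodule.span (MvPolynomial (Fin (r + 1)) k)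
    {m' : (Fin i → Fin (r + 1)) → M | m' ∈ iterSyz (k := k) i ∧ ∃ e : ℤ, e ≤ d ∧ ∀ c, m' c ∈ ℳ (e - i)}

theorem mem_range_contr_of_gen {i : ℕ} {d e : ℤ} (hgen : GenLE (r := r) ℳ i d) (he : d < e)
    {z : iterSyz (k := k) (r := r) (M := M) i} (hz : z ∈ iterPiece ℳ i e) :
    z ∈ LinearMap.range (contr i) := by
  let S := {m' : (Fin i → Fin (r + 1)) → M | m' ∈ iterSyz (k := k) i ∧ ∃ e : ℤ, e ≤ d ∧ ∀ c, m' c ∈ ℳ (e - i)}
  rw [← iterP_of_mem ℳ hz]
  suffices h : ∀ m ∈ Submodule.span (MvPolynomial (Fin (r + 1)) k) S, ∀ hm : m ∈ iterSyz (k := k) i,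
      iterP ℳ i e ⟨m, hm⟩ ∈ LinearMap.range (contr i) from h z.1 (hgen z.1 z.2) z.2
  intro m hm
  have key : ∃ hm' : m ∈ iterSyz (k := k) i, ∀ a : MvPolynomial (Fin (r + 1)) k,
      iterP ℳ i e (a • ⟨m, hm'⟩) ∈ LinearMap.range (contr i) := by
    induction hm using Submodule.span_induction with
    | mem m hm =>
      obtain ⟨hmZ, e', he', hc⟩ := hm
      refine ⟨hmZ, fun a => ?_⟩
      have heq : iterP ℳ i e (a • (⟨m, hmZ⟩ : iterSyz (k := k) (r := r) (M := M) i)) =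
          P (stdGr k (Fin (r + 1))) (e - e') a • (⟨m, hmZ⟩ : iterSyz (k := k) (r := r) (M := M) i) := by
        refine Subtype.ext (funext fun c => ?_)
        show P ℳ (e - i) (a • m c) = P (stdGr k (Fin (r + 1))) (e - e') a • m c
        rw [P_smul (stdGr k (Fin (r + 1))) ℳ (hc c), show e - (i : ℤ) - (e' - i) = e - e' by ring]
      rw [heq]
      have hir : firstVars k r (r + 1) ≤ (LinearMap.range (contr i)).comap
          (LinearMap.toSpanSingleton (MvPolynomial (Fin (r + 1)) k) _ (⟨m, hmZ⟩ : iterSyz (k := k) (r := r) (M := M) i)) := by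
        rw [firstVars, Ideal.span_le]
        rintro _ ⟨v, -, rfl⟩
        simpa using X_smul_mem_range (k := k) i v (⟨m, hmZ⟩ : iterSyz (k := k) (r := r) (M := M) i)
      simpa using hir (by rw [firstVars_top]; exact mem_irrel_of_mem (by omega) (P_mem _ _ a))
    | zero =>
      refine ⟨zero_mem _, fun a => ?_⟩
      rw [show (⟨0, zero_mem _⟩ : iterSyz (k := k) (r := r) (M := M) i) = 0 from rfl, smul_zero, map_zero]
      exact zero_mem _
    | add x y _ _ hx hy =>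
      obtain ⟨hxZ, hx⟩ := hx
      obtain ⟨hyZ, hy⟩ := hy
      refine ⟨add_mem hxZ hyZ, fun a => ?_⟩
      rw [show (⟨x + y, add_mem hxZ hyZ⟩ : iterSyz (k := k) (r := r) (M := M) i) = ⟨x, hxZ⟩ + ⟨y, hyZ⟩ from rfl,
        smul_add, map_add]
      exact add_mem (hx a) (hy a)
    | smul b x _ hx =>
      obtain ⟨hxZ, hx⟩ := hx
      refine ⟨Submodule.smul_mem _ b hxZ, fun a => ?_⟩
      rw [show (⟨b • x, Submodule.smul_mem _ b hxZ⟩ : iterSyz (k := k) (r := r) (M := M) i) = b • ⟨x, hxZ⟩ from rfl,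
        smul_smul]
      exact hx _
  intro hmZ
  obtain ⟨_, h⟩ := key
  have := h 1
  rwa [one_smul] at this

/-- `Z_{i+1} → Z_i^{r+1}` -/
def curryMap (i : ℕ) : iterSyz (k := k) (r := r) (M := M) (i + 1) →ₗ[MvPolynomial (Fin (r + 1)) k]
    (Fin (r + 1) → iterSyz (k := k) (r := r) (M := M) i) where
  toFun m v := ⟨fun c => m.1 (Fin.cons v c), fun s c => by
    have h := m.2 s.succ (Fin.cons v c)
    simp only [← Fin.cons_update] at h
    exact h⟩
  map_add' _ _ := rfl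
  map_smul' _ _ := rfl

omit [DirectSum.Decomposition ℳ] [SetLike.GradedSMul (stdGr k (Fin (r + 1))) ℳ] [Module k M] in
theorem contr_curry (i : ℕ) (m : iterSyz (k := k) (r := r) (M := M) (i + 1)) : contr i (curryMap i m) = 0 := by
  rw [contr_apply]
  refine Subtype.ext (funext fun c => ?_)
  rw [AddSubmonoidClass.coe_finset_sum, Finset.sum_apply]
  have h := m.2 0 (Fin.cons 0 c)
  simp only [Fin.update_cons_zero] at h
  exact h

omit [DirectSum.Decomposition ℳ] [SetLike.GradedSMul (stdGr k (Fin (r + 1))) ℳ] [Module k M] in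
theorem exists_curry (i : ℕ) {w : Fin (r + 1) → iterSyz (k := k) (r := r) (M := M) i} (hw : contr i w = 0) :
    ∃ m, curryMap i m = w := by
  have hmem : (fun c : Fin (i + 1) → Fin (r + 1) => (w (c 0)).1 (Fin.tail c)) ∈ iterSyz (k := k) (i + 1) := by
    intro s c
    refine Fin.cases ?_ (fun s' => ?_) s
    · rw [contr_apply] at hw
      have h := congrFun (congrArg Subtype.val hw) (Fin.tail c)
      rw [AddSubmonoidClass.coe_finset_sum, Finset.sum_apply] at h
      simpa [Fin.tail_update_zero] using h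
    · have h := (w (c 0)).2 s' (Fin.tail c)
      simpa [Fin.tail_update_succ, Function.update_of_ne (Fin.succ_ne_zero s').symm] using h
  refine ⟨⟨_, hmem⟩, funext fun v => Subtype.ext (funext fun c => ?_)⟩
  show (w ((Fin.cons v c : Fin (i + 1) → Fin (r + 1)) 0)).1 (Fin.tail (Fin.cons v c : Fin (i + 1) → Fin (r + 1))) = _
  rw [Fin.cons_zero, Fin.tail_cons]

section Step

variable {Z Z' : Type u} [AddCommGroup Z] [Module (MvPolynomial (Fin (r + 1)) k) Z]
  [AddCommGroup Z'] [Module (MvPolynomial (Fin (r + 1)) k) Z']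

omit [DirectSum.Decomposition ℳ] [SetLike.GradedSMul (stdGr k (Fin (r + 1))) ℳ] [Module k M] in
/-- images of pieces under a linear map are stable -/
theorem map_smul_stable {T T' : Type u} [AddCommGroup T] [Module (MvPolynomial (Fin (r + 1)) k) T]
    [AddCommGroup T'] [Module (MvPolynomial (Fin (r + 1)) k) T'] (f : T →ₗ[MvPolynomial (Fin (r + 1)) k] T')
    (S : ℤ → AddSubgroup T) (hS : ∀ y ∈ Lv k r, ∀ e z, z ∈ S e → y • z ∈ S (e + 1)) :
    ∀ y ∈ Lv k r, ∀ e z, z ∈ AddSubgroup.map f.toAddMonoidHom (S e) →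
      y • z ∈ AddSubgroup.map f.toAddMonoidHom (S (e + 1)) := by
  rintro y hy e _ ⟨w, hw, rfl⟩
  exact ⟨y • w, hS y hy e w hw, map_smul f y w⟩

theorem coneL_comp {B₁ B₂ B₃ : BC (MvPolynomial (Fin (r + 1)) k) (Lv k r)} :
    ∀ (l : List (Lv k r)) (a : Hom B₁ B₂) (b : Hom B₂ B₃) (c : Hom B₁ B₃), (∀ z, c.f z = b.f (a.f z)) →
      ∀ z, (c.coneL l).f z = (b.coneL l).f ((a.coneL l).f z)
  | [], _, _, _, h => h
  | y :: l, a, b, c, h => coneL_comp l (a.cone y) (b.cone y) (c.cone y) fun z => Prod.ext (h z.1) (h z.2)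

omit [DirectSum.Decomposition ℳ] [SetLike.GradedSMul (stdGr k (Fin (r + 1))) ℳ] [Module k M] in
/-- one step: from the module of linear syzygies `Z'` to `Z` -/
theorem ex_of_syz {SZ : ℤ → AddSubgroup Z} (hSZ : ∀ y ∈ Lv k r, ∀ e z, z ∈ SZ e → y • z ∈ SZ (e + 1))
    {SZ' : ℤ → AddSubgroup Z'} (hSZ' : ∀ y ∈ Lv k r, ∀ e z, z ∈ SZ' e → y • z ∈ SZ' (e + 1))
    (cur : Z' →ₗ[MvPolynomial (Fin (r + 1)) k] (Fin (r + 1) → Z)) (hcur : Function.Injective cur)
    (hcur_mem : ∀ e z, z ∈ SZ' e → ∀ v, cur z v ∈ SZ (e - 1))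
    (hcur0 : ∀ z, ∑ v, (X v : MvPolynomial (Fin (r + 1)) k) • cur z v = 0)
    (hker : ∀ e (w : Fin (r + 1) → Z), (∀ v, w v ∈ SZ (e - 1)) →
      ∑ v, (X v : MvPolynomial (Fin (r + 1)) k) • w v = 0 → ∃ z ∈ SZ' e, cur z = w)
    (hhom : ∀ e (w : Fin (r + 1) → Z), ∑ v, (X v : MvPolynomial (Fin (r + 1)) k) • w v ∈ SZ e →
      ∃ w' : Fin (r + 1) → Z, (∀ v, w' v ∈ SZ (e - 1)) ∧
        ∑ v, (X v : MvPolynomial (Fin (r + 1)) k) • w' v = ∑ v, (X v : MvPolynomial (Fin (r + 1)) k) • w v)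
    {n e : ℤ} (hgen : ∀ z ∈ SZ (e + n), ∃ w : Fin (r + 1) → Z, ∑ v, (X v : MvPolynomial (Fin (r + 1)) k) • w v = z)
    (hZ : (coneL (vars k r) (ofMod (Lv k r) SZ' hSZ')).Ex (n + 1) e) :
    (coneL (vars k r) (ofMod (Lv k r) SZ hSZ)).Ex n e := by
  let ctr : (Fin (r + 1) → Z) →ₗ[MvPolynomial (Fin (r + 1)) k] Z :=
    ∑ v, (X v : MvPolynomial (Fin (r + 1)) k) • LinearMap.proj v
  have hctr : ∀ w, ctr w = ∑ v, (X v : MvPolynomial (Fin (r + 1)) k) • w v := fun w => by simp [ctr]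
  let Sm : ℤ → AddSubgroup (Fin (r + 1) → Z) := fun e => AddSubgroup.pi Set.univ fun _ => SZ (e - 1)
  have hSm : ∀ y ∈ Lv k r, ∀ e z, z ∈ Sm e → y • z ∈ Sm (e + 1) := fun y hy e z hz v hv => by
    show y • z v ∈ SZ (e + 1 - 1)
    rw [show e + 1 - 1 = e - 1 + 1 by ring]
    exact hSZ y hy _ _ (hz v hv)
  have hmem : ∀ e w, w ∈ Sm e → ctr w ∈ SZ e := fun e w hw => by
    rw [hctr]
    refine AddSubgroup.sum_mem _ fun v _ => ?_
    have := hSZ _ (X_mem_stdGr v) _ _ (hw v trivial)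
    rwa [sub_add_cancel] at this
  let κ : Hom (ofMod (Lv k r) SZ' hSZ') (ofMod (Lv k r) Sm hSm) := modHom cur fun e z hz v _ => hcur_mem e z hz v
  let ψ : Hom (ofMod (Lv k r) Sm hSm) (ofMod (Lv k r) (fun e => AddSubgroup.map ctr.rangeRestrict.toAddMonoidHom (Sm e))
      (map_smul_stable ctr.rangeRestrict Sm hSm)) := modHom ctr.rangeRestrict fun _ _ hw => AddSubgroup.mem_map_of_mem _ hw
  let ι' : Hom (ofMod (Lv k r) (fun e => AddSubgroup.map ctr.rangeRestrict.toAddMonoidHom (Sm e))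
      (map_smul_stable ctr.rangeRestrict Sm hSm)) (ofMod (Lv k r) SZ hSZ) :=
    modHom (LinearMap.range ctr).subtype fun e z hz => by
      obtain ⟨w, hw, rfl⟩ := hz
      exact hmem e w hw
  let π : Hom (ofMod (Lv k r) SZ hSZ) (ofMod (Lv k r) (fun e => AddSubgroup.map (LinearMap.range ctr).mkQ.toAddMonoidHom (SZ e))
      (map_smul_stable (LinearMap.range ctr).mkQ SZ hSZ)) :=
    modHom (LinearMap.range ctr).mkQ fun _ _ hz => AddSubgroup.mem_map_of_mem _ hz
  let χ : Hom (ofMod (Lv k r) Sm hSm) (ofMod (Lv k r) SZ hSZ) := modHom ctr hmem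
  have hs1 : IsShort κ ψ := by
    refine isShort_ofMod κ ψ hcur (fun e z hz hz0 => ?_) (fun e z hz => ?_)
      fun z => Subtype.ext ((hctr _).trans (hcur0 z))
    · exact hker e z (fun v => hz v trivial) ((hctr z).symm.trans (congrArg Subtype.val hz0))
    · obtain ⟨w, hw, rfl⟩ := hz
      exact ⟨w, hw, rfl⟩
  have hs2 : IsShort ι' π := by
    refine isShort_ofMod ι' π Subtype.val_injective (fun e z hz hz0 => ?_) (fun e z hz => ?_)
      fun z => (Submodule.Quotient.mk_eq_zero _).mpr z.2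
    · obtain ⟨w, rfl⟩ := (Submodule.Quotient.mk_eq_zero _).mp hz0
      obtain ⟨w', hw', heq⟩ := hhom e w ((hctr w) ▸ hz)
      refine ⟨ctr.rangeRestrict w', AddSubgroup.mem_map_of_mem _ (fun v _ => hw' v), ?_⟩
      show ctr w' = ctr w
      rw [hctr, hctr, heq]
    · obtain ⟨w, hw, rfl⟩ := hz
      exact ⟨w, hw, rfl⟩
  have hf : Factor (fun v : Fin (r + 1) => (X v : MvPolynomial (Fin (r + 1)) k)) χ := by
    refine ⟨fun v => LinearMap.proj v, fun v z => rfl, fun v n e z hz => mem_ofMod.mpr ⟨fun hn => ?_, fun hn => ?_⟩,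
      fun z => hctr z⟩
    · exact (mem_ofMod.mp hz).1 hn v trivial
    · exact congrFun ((mem_ofMod.mp hz).2 hn) v
  refine ex_of_chase (hs1.coneL (vars k r)) (hs2.coneL (vars k r))
    (coneL_comp (vars k r) ψ ι' χ fun z => rfl) (hf.coneL (vars k r))
    (fun v => null_coneL_of_mem (vars k r) _ (var_mem_vars v)) ?_ hZ
  refine coneL_ex_diag (vars k r) _ (D := e + n) (fun n' e' he => (ofMod_ex n' e').mpr fun hn z hz => ?_) n e rfl
  obtain ⟨w, hw, rfl⟩ := hz
  obtain ⟨u, hu⟩ := hgen w (by rwa [show e + n = e' by omega])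
  exact (Submodule.Quotient.mk_eq_zero _).mpr ⟨u, (hctr u).trans hu⟩

end Step

/-- vanishing for iterated syzygy modules -/
theorem ex_iterSyz (p : ℕ) (j : ℤ) (hgen : ∀ i, i ≤ p → GenLE (r := r) ℳ i (j - p + i - 1)) :
    ∀ q i, i + q = p → (coneL (vars k r) (ofMod (Lv k r) (iterPiece (r := r) ℳ i) (iterPiece_smul ℳ i))).Ex
      (((r + 1 : ℕ) : ℤ) - q) (j - ((r + 1 : ℕ) : ℤ)) := by
  intro q
  induction q using Nat.strong_induction_on with
  | _ q ih =>
    intro i hi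
    have hstep := ex_of_syz (SZ := iterPiece (r := r) ℳ i) (iterPiece_smul ℳ i) (SZ' := iterPiece (r := r) ℳ (i + 1))
      (iterPiece_smul ℳ (i + 1)) (curryMap i) (n := ((r + 1 : ℕ) : ℤ) - q) (e := j - ((r + 1 : ℕ) : ℤ))
    refine hstep (fun a b h => ?_) ?_ (fun z => (contr_apply i _).symm.trans (contr_curry i z)) (fun e w hw h0 => ?_)
      (fun e w hw => ?_) (fun z hz => ?_) ?_
    · refine Subtype.ext (funext fun c => ?_)
      have := congrFun (congrArg Subtype.val (congrFun h (c 0))) (Fin.tail c)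
      simpa [curryMap] using this
    · intro e z hz v c
      show z.1 (Fin.cons v c) ∈ ℳ (e - 1 - i)
      have := hz (Fin.cons v c)
      rwa [Nat.cast_succ, show e - ((i : ℤ) + 1) = e - 1 - i by ring] at this
    · obtain ⟨m, rfl⟩ := exists_curry i (w := w) ((contr_apply i w).trans h0)
      refine ⟨m, fun c => ?_, rfl⟩
      have := hw (c 0) (Fin.tail c)
      simp only [curryMap, LinearMap.coe_mk, AddHom.coe_mk, Fin.cons_self_tail] at this
      rwa [Nat.cast_succ, show e - ((i : ℤ) + 1) = e - 1 - i by ring]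
    · refine ⟨fun v => iterP ℳ i (e - 1) (w v), fun v => iterP_mem ℳ i _ _, ?_⟩
      conv_rhs => rw [← iterP_of_mem ℳ hw, map_sum]
      refine Finset.sum_congr rfl fun v _ => Subtype.ext (funext fun c => ?_)
      show (X v : MvPolynomial (Fin (r + 1)) k) • P ℳ (e - 1 - i) ((w v).1 c) =
        P ℳ (e - i) ((X v : MvPolynomial (Fin (r + 1)) k) • (w v).1 c)
      rw [P_smul_linear ℳ (X_mem_stdGr v), show e - 1 - (i : ℤ) = e - i - 1 by ring]
    · obtain ⟨w, hw⟩ := mem_range_contr_of_gen ℳ (hgen i (by omega)) (by push_cast; omega) hz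
      exact ⟨w, (contr_apply i w).symm.trans hw⟩
    · rcases q with _ | q
      · exact ex_above (vars k r) _ (N := 0) (fun n hn e => if_neg (ne_of_gt hn)) _
          (by rw [length_vars]; push_cast; omega) _
      · have := ih q (Nat.lt_succ_self q) (i + 1) (by omega)
        rwa [show ((r + 1 : ℕ) : ℤ) - ((q + 1 : ℕ) : ℤ) + 1 = ((r + 1 : ℕ) : ℤ) - q by push_cast; ring]

end Groth.Agent.H3CAlg.KC
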