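import Groth.Agent.H3CAlg.KC.Seq
import Groth.Agent.H3CAlg.Syz.Compare
import Mathlib.RingTheory.Ideal.Quotient.Operations

/-!
# Koszul cones of a graded module over a polynomial ring and its graded Betti numbers
-/

namespace Groth.Agent.H3CAlg.KC

universe u

open MvPolynomial GrSyz Groth.Agent.H3CAlg.Syz

variable {k : Type u} [Field k] {r : ℕ}


theorem X_mem_stdGr (v : Fin (r + 1)) : (X v : (MvPolynomial (Fin (r + 1)) k)) ∈ (stdGr k (Fin (r + 1))) 1 :=
  (mem_stdGr_iff k (Fin (r + 1)) 1 _).mpr (isWeightedHomogeneous_X k _ v)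

/-- the set of linear forms -/
abbrev Lv (k : Type u) [Field k] (r : ℕ) : Set (MvPolynomial (Fin (r + 1)) k) := {y | y ∈ stdGr k (Fin (r + 1)) 1}

/-- a variable, as an element of `Lv` -/
noncomputable abbrev var (k : Type u) [Field k] {r : ℕ} (v : Fin (r + 1)) : Lv k r := ⟨X v, X_mem_stdGr v⟩

/-- the list of all variables -/
noncomputable def vars (k : Type u) [Field k] (r : ℕ) : List (Lv k r) := (List.finRange (r + 1)).map (var k)

theorem length_vars : (vars k r).length = r + 1 := by simp [vars]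

theorem drop_vars {s : ℕ} (hs : s < r + 1) :
    (vars k r).drop s = var k ⟨s, hs⟩ :: (vars k r).drop (s + 1) := by
  rw [List.drop_eq_getElem_cons (by rw [length_vars]; exact hs)]
  simp [vars]

theorem var_mem_vars (v : Fin (r + 1)) : var k v ∈ vars k r :=
  List.mem_map.mpr ⟨v, List.mem_finRange v, rfl⟩

theorem smul_mem_piece {M : Type u} [AddCommGroup M] [Module (MvPolynomial (Fin (r + 1)) k) M] {τ : Type u} [SetLike τ M]
    [AddSubgroupClass τ M] (ℳ : ℤ → τ) [SetLike.GradedSMul (stdGr k (Fin (r + 1))) ℳ] {y : (MvPolynomial (Fin (r + 1)) k)} (hy : y ∈ Lv k r) {e : ℤ} {z : M}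
    (hz : z ∈ ℳ e) : y • z ∈ ℳ (e + 1) := by
  have h := SetLike.GradedSMul.smul_mem (A := (stdGr k (Fin (r + 1)))) (B := ℳ) hy hz
  rwa [vadd_eq_add, add_comm] at h

variable {M : Type u} [AddCommGroup M] [Module k M] [Module (MvPolynomial (Fin (r + 1)) k) M] (ℳ : ℤ → Submodule k M)
  [SetLike.GradedSMul (stdGr k (Fin (r + 1))) ℳ]

/-- a graded module as a complex concentrated in degree zero -/
noncomputable abbrev modBC : BC (MvPolynomial (Fin (r + 1)) k) (Lv k r) :=
  ofMod (Lv k r) (fun e => (ℳ e).toAddSubgroup) fun _ hy _ _ hz => smul_mem_piece ℳ hy hz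

/-- the Koszul cohomology of `M` vanishes in total degrees above `d` -/
def KLE (d : ℤ) : Prop := ∀ n e, d < e + n → (coneL (vars k r) (modBC ℳ)).Ex n e

section Free

variable {ℳ} [DirectSum.Decomposition ℳ] [IsScalarTower k (MvPolynomial (Fin (r + 1)) k) M] (F : FreeRes (stdGr k (Fin (r + 1))) ℳ)

/-- the degree-`e` piece of the `i`-th term of a free resolution -/
def resS (i : ℕ) (e : ℤ) : AddSubgroup (Fin (F.rk i) → (MvPolynomial (Fin (r + 1)) k)) where
  carrier := {v | ∀ a, v a ∈ (stdGr k (Fin (r + 1))) (e - F.deg i a)}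
  zero_mem' _ := zero_mem _
  add_mem' ha hb a := add_mem (ha a) (hb a)
  neg_mem' ha a := neg_mem (ha a)

omit [IsScalarTower k (MvPolynomial (Fin (r + 1)) k) M] in
theorem mem_resS {i : ℕ} {e : ℤ} {v : Fin (F.rk i) → (MvPolynomial (Fin (r + 1)) k)} :
    v ∈ resS F i e ↔ vcmp (stdGr k (Fin (r + 1))) (F.deg i) e v = v := (vcmp_eq_self_iff (stdGr k (Fin (r + 1))) (F.deg i)).symm

omit [IsScalarTower k (MvPolynomial (Fin (r + 1)) k) M] in
theorem vcmp_mem_resS (i : ℕ) (e : ℤ) (v : Fin (F.rk i) → (MvPolynomial (Fin (r + 1)) k)) : vcmp (stdGr k (Fin (r + 1))) (F.deg i) e v ∈ resS F i e :=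
  fun a => P_mem (stdGr k (Fin (r + 1))) _ _

omit [IsScalarTower k (MvPolynomial (Fin (r + 1)) k) M] in
theorem vcmp_dLin (i : ℕ) (e : ℤ) (v : Fin (F.rk (i + 1)) → (MvPolynomial (Fin (r + 1)) k)) :
    vcmp (stdGr k (Fin (r + 1))) (F.deg i) e (F.dLin i v) = F.dLin i (vcmp (stdGr k (Fin (r + 1))) (F.deg (i + 1)) e v) :=
  comp_mulVecLin (F.deg (i + 1)) (F.deg i) (F.d i) (F.d_mem i) e v

omit [IsScalarTower k (MvPolynomial (Fin (r + 1)) k) M] in
theorem P_augLin (e : ℤ) (v : Fin (F.rk 0) → (MvPolynomial (Fin (r + 1)) k)) :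
    P ℳ e (F.augLin v) = F.augLin (vcmp (stdGr k (Fin (r + 1))) (F.deg 0) e v) :=
  comp_linearCombination (F.deg 0) (isProj_P (stdGr k (Fin (r + 1))) ℳ) F.aug (fun b => (P_eq_self_iff ℳ).mpr (F.aug_mem b)) e v

/-- the complex of a free resolution -/
noncomputable def resData : ChainData (Lv k r) (fun i => Fin (F.rk i) → (MvPolynomial (Fin (r + 1)) k)) where
  d := F.dLin
  S := resS F
  d_d i z := LinearMap.mem_ker.mp ((F.exact_succ i).ge (LinearMap.mem_range_self _ z))
  d_mem i e z hz := by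
    rw [mem_resS] at hz ⊢
    rw [vcmp_dLin, hz]
  smul_mem y hy i e z hz a := by
    have h := smul_mem_piece (M := (MvPolynomial (Fin (r + 1)) k)) (stdGr k (Fin (r + 1))) hy (hz a)
    rwa [show e - F.deg i a + 1 = e + 1 - F.deg i a by ring] at h

omit [IsScalarTower k (MvPolynomial (Fin (r + 1)) k) M] in
theorem aug_mem_piece (e : ℤ) (v : Fin (F.rk 0) → (MvPolynomial (Fin (r + 1)) k)) (hv : v ∈ resS F 0 e) : F.augLin v ∈ ℳ e := by
  rw [mem_resS] at hv
  rw [← hv, ← P_augLin]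
  exact P_mem ℳ e _

/-- augmentation of the resolution -/
noncomputable def resHom : Hom (ofChain (resData F)) (modBC ℳ) :=
  augHom (resData F) F.augLin (fun e z hz => aug_mem_piece F e z hz) fun v =>
    LinearMap.mem_ker.mp (F.exact_zero.ge (LinearMap.mem_range_self _ v))

omit [IsScalarTower k (MvPolynomial (Fin (r + 1)) k) M] in
theorem isQ_resHom : (resHom F).IsQ := by
  refine isQ_augHom _ _ _ _ (fun e m hm => ?_) (fun e v hv h => ?_) fun i e v hv h => ?_
  · obtain ⟨v, rfl⟩ := F.aug_surjective m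
    exact ⟨vcmp (stdGr k (Fin (r + 1))) (F.deg 0) e v, vcmp_mem_resS F 0 e v,
      (P_augLin F e v).symm.trans ((P_eq_self_iff ℳ).mpr hm)⟩
  · obtain ⟨w, rfl⟩ := F.exact_zero.le (LinearMap.mem_ker.mpr h)
    exact ⟨vcmp (stdGr k (Fin (r + 1))) (F.deg 1) e w, vcmp_mem_resS F 1 e w, (vcmp_dLin F 0 e w).symm.trans ((mem_resS F).mp hv)⟩
  · obtain ⟨w, rfl⟩ := (F.exact_succ i).le (LinearMap.mem_ker.mpr h)
    exact ⟨vcmp (stdGr k (Fin (r + 1))) (F.deg (i + 2)) e w, vcmp_mem_resS F (i + 2) e w,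
      (vcmp_dLin F (i + 1) e w).symm.trans ((mem_resS F).mp hv)⟩

theorem firstVars_zero : firstVars k r 0 = ⊥ := by simp [firstVars]

theorem firstVars_mono {s t : ℕ} (h : s ≤ t) : firstVars k r s ≤ firstVars k r t := by
  rw [firstVars, firstVars]
  exact Ideal.span_mono (Set.image_mono fun i (hi : i.val < s) => lt_of_lt_of_le hi h)

theorem firstVars_succ {s : ℕ} (hs : s < r + 1) :
    firstVars k r (s + 1) = Ideal.span {X ⟨s, hs⟩} ⊔ firstVars k r s := by
  rw [firstVars, firstVars, ← Ideal.span_union, Set.singleton_union, ← Set.image_insert_eq]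
  congr 2
  ext x
  simp only [Set.mem_setOf_eq, Set.mem_insert_iff, Fin.ext_iff]
  omega

theorem isHomogeneous_firstVars (s : ℕ) : (firstVars k r s).IsHomogeneous (stdGr k (Fin (r + 1))) :=
  Ideal.homogeneous_span (stdGr k (Fin (r + 1))) _ (by rintro _ ⟨v, -, rfl⟩; exact ⟨1, X_mem_stdGr v⟩)

theorem mem_firstVars_top {p : (MvPolynomial (Fin (r + 1)) k)} : p ∈ firstVars k r (r + 1) ↔ constantCoeff p = 0 := by
  rw [firstVars, mem_ideal_span_X_image]
  refine ⟨fun h => ?_, fun h d hd => ?_⟩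
  · by_contra hc
    obtain ⟨i, -, hne⟩ := h 0 (mem_support_iff.mpr hc)
    exact hne rfl
  · obtain ⟨i, hi⟩ := Finsupp.ne_iff.mp (fun h0 : d = 0 => mem_support_iff.mp hd (h0 ▸ h))
    exact ⟨i, i.isLt, hi⟩

theorem firstVars_top : firstVars k r (r + 1) = (irrel (stdGr k (Fin (r + 1)))).toIdeal :=
  Ideal.ext fun p => by rw [mem_firstVars_top, mem_irrel_iff]

/-- `(MvPolynomial (Fin (r + 1)) k)` modulo the first `s` variables -/
abbrev Quo (k : Type u) [Field k] (r s : ℕ) : Type u := MvPolynomial (Fin (r + 1)) k ⧸ firstVars k r s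

/-- the terms modulo the first `s` variables -/
def qS (s i : ℕ) (e : ℤ) : AddSubgroup (Fin (F.rk i) → Quo k r s) where
  carrier := {v | ∀ a, ∃ p ∈ (stdGr k (Fin (r + 1))) (e + s - F.deg i a), Ideal.Quotient.mk (firstVars k r s) p = v a}
  zero_mem' _ := ⟨0, zero_mem _, map_zero _⟩
  add_mem' ha hb a := by
    obtain ⟨p, hp, hpa⟩ := ha a
    obtain ⟨q, hq, hqb⟩ := hb a
    exact ⟨p + q, add_mem hp hq, by rw [map_add, hpa, hqb]; rfl⟩
  neg_mem' ha a := by
    obtain ⟨p, hp, hpa⟩ := ha a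
    exact ⟨-p, neg_mem hp, by rw [map_neg, hpa]; rfl⟩

/-- differential modulo the first `s` variables -/
noncomputable def qd (s i : ℕ) : (Fin (F.rk (i + 1)) → Quo k r s) →ₗ[(MvPolynomial (Fin (r + 1)) k)] (Fin (F.rk i) → Quo k r s) :=
  ((-1 : (MvPolynomial (Fin (r + 1)) k)) ^ s) • LinearMap.pi fun a => ∑ b, F.d i a b • LinearMap.proj b

omit [IsScalarTower k (MvPolynomial (Fin (r + 1)) k) M] in
theorem qd_mk (s i : ℕ) (w : Fin (F.rk (i + 1)) → (MvPolynomial (Fin (r + 1)) k)) (a : Fin (F.rk i)) :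
    qd F s i (fun b => Ideal.Quotient.mk (firstVars k r s) (w b)) a =
      (-1 : (MvPolynomial (Fin (r + 1)) k)) ^ s • Ideal.Quotient.mk (firstVars k r s) (F.dLin i w a) := by
  rw [qd, LinearMap.smul_apply, Pi.smul_apply, LinearMap.pi_apply, LinearMap.sum_apply, Matrix.mulVecLin_apply]
  congr 1
  simp only [Matrix.mulVec, dotProduct, map_sum, LinearMap.smul_apply, LinearMap.proj_apply]
  exact Finset.sum_congr rfl fun b _ => rfl

omit [IsScalarTower k (MvPolynomial (Fin (r + 1)) k) M] in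
theorem qd_qd (s i : ℕ) (z : Fin (F.rk (i + 2)) → Quo k r s) : qd F s i (qd F s (i + 1) z) = 0 := by
  choose w hw using fun b => Ideal.Quotient.mk_surjective (z b)
  obtain rfl : (fun b => Ideal.Quotient.mk (firstVars k r s) (w b)) = z := funext hw
  rw [show qd F s (i + 1) (fun b => Ideal.Quotient.mk (firstVars k r s) (w b)) =
    (-1 : (MvPolynomial (Fin (r + 1)) k)) ^ s • fun a => Ideal.Quotient.mk (firstVars k r s) (F.dLin (i + 1) w a) from
      funext fun a => qd_mk F s (i + 1) w a, map_smul]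
  funext a
  rw [Pi.smul_apply, qd_mk, show F.dLin i (F.dLin (i + 1) w) = 0 from
    LinearMap.mem_ker.mp ((F.exact_succ i).ge (LinearMap.mem_range_self _ w)), Pi.zero_apply, map_zero,
    smul_zero, smul_zero, Pi.zero_apply]

omit [IsScalarTower k (MvPolynomial (Fin (r + 1)) k) M] in
theorem qd_mem (s i : ℕ) {e : ℤ} {z : Fin (F.rk (i + 1)) → Quo k r s} (hz : z ∈ qS F s (i + 1) e) :
    qd F s i z ∈ qS F s i e := by
  intro a
  choose w hw hwz using hz
  obtain rfl : (fun b => Ideal.Quotient.mk (firstVars k r s) (w b)) = z := funext hwz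
  refine ⟨(-1 : (MvPolynomial (Fin (r + 1)) k)) ^ s * F.dLin i w a, ?_, by rw [qd_mk]; rfl⟩
  have h : F.dLin i w a ∈ (stdGr k (Fin (r + 1))) (e + s - F.deg i a) := by
    have := vcmp_dLin F i (e + s) w
    rw [vcmp_eq_self_of_mem (stdGr k (Fin (r + 1))) (F.deg (i + 1)) hw] at this
    exact (vcmp_eq_self_iff (stdGr k (Fin (r + 1))) (F.deg i)).mp this a
  rcases neg_one_pow_eq_or (MvPolynomial (Fin (r + 1)) k) s with h1 | h1 <;> rw [h1]
  · rwa [one_mul]
  · rw [neg_one_mul]; exact neg_mem h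

/-- the resolution modulo the first `s` variables, shifted -/
noncomputable abbrev qBC (s : ℕ) : BC (MvPolynomial (Fin (r + 1)) k) (Lv k r) where
  T := ∀ i, Fin (F.rk i) → Quo k r s
  d := downD (qd F s)
  C := piecesOf (qS F s) fun i => (s : ℤ) - i
  d_d f := funext fun i => by rw [downD_apply, downD_apply, qd_qd, Pi.zero_apply]
  d_mem n e f hf i := by
    refine ⟨qd_mem F s i (hf (i + 1)).1, fun h => ?_⟩
    rw [downD_apply, (hf (i + 1)).2 (by simp only [Nat.cast_succ] at h ⊢; omega), map_zero]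
  smul_mem y hy n e f hf i := by
    refine ⟨fun a => ?_, fun h => by simp [(hf i).2 h]⟩
    obtain ⟨p, hp, hpa⟩ := (hf i).1 a
    refine ⟨y • p, ?_, ?_⟩
    · have h := smul_mem_piece (M := (MvPolynomial (Fin (r + 1)) k)) (stdGr k (Fin (r + 1))) hy hp
      rwa [show e + (s : ℤ) - F.deg i a + 1 = e + 1 + s - F.deg i a by ring] at h
    · show Ideal.Quotient.mk _ (y * p) = y • f i a
      rw [← hpa]
      rfl

/-- reduction from the resolution to `qBC 0` -/
noncomputable def q0Hom : Hom (ofChain (resData F)) (qBC F 0) where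
  f := LinearMap.pi fun i => (LinearMap.pi fun a =>
    (firstVars k r 0).mkQ ∘ₗ LinearMap.proj a) ∘ₗ LinearMap.proj i
  comm f := funext fun i => funext fun a => by
    show Ideal.Quotient.mk (firstVars k r 0) (F.dLin i (f (i + 1)) a) =
      qd F 0 i (fun b => Ideal.Quotient.mk (firstVars k r 0) (f (i + 1) b)) a
    rw [qd_mk, pow_zero, one_smul]
  mem n e f hf i := by
    refine ⟨fun a => ⟨f i a, ?_, rfl⟩, fun h => funext fun a => ?_⟩
    · have h := (hf i).1 a
      simpa using h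
    · show Ideal.Quotient.mk _ (f i a) = _
      rw [(hf i).2 (by simp only [Nat.cast_zero] at h ⊢; omega), Pi.zero_apply, map_zero]
      rfl

omit [IsScalarTower k (MvPolynomial (Fin (r + 1)) k) M] in
theorem isQ_q0Hom : (q0Hom F).IsQ := by
  have hinj : Function.Injective (q0Hom F).f := fun f g h => funext fun i => funext fun a => by
    have h1 := congrFun (congrFun h i) a
    have h2 := (Submodule.Quotient.eq (firstVars k r 0)).mp h1
    rw [firstVars_zero, Submodule.mem_bot, sub_eq_zero] at h2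
    exact h2
  have hsurj : ∀ n e, ∀ g ∈ (qBC F 0).C n e, ∃ f ∈ (ofChain (resData F)).C n e, (q0Hom F).f f = g := by
    intro n e g hg
    choose p hp hpg using fun i => (hg i).1
    refine ⟨fun i a => p i a, fun i => ⟨fun a => ?_, fun h => funext fun a => ?_⟩, funext fun i => funext fun a => hpg i a⟩
    · simpa using hp i a
    · have h1 := hpg i a
      rw [(hg i).2 (by simp only [Nat.cast_zero] at h ⊢; omega), Pi.zero_apply] at h1
      have h2 := Ideal.Quotient.eq_zero_iff_mem.mp h1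
      rwa [firstVars_zero, Submodule.mem_bot] at h2
  refine ⟨fun n e z hz _ w hw hwz => ?_, fun n e z hz hd => ?_⟩
  · obtain ⟨v, hv, rfl⟩ := hsurj _ _ w hw
    exact ⟨v, hv, hinj (((q0Hom F).comm v).trans hwz)⟩
  · obtain ⟨v, hv, rfl⟩ := hsurj _ _ z hz
    refine ⟨v, hv, hinj ?_, 0, zero_mem _, by rw [map_zero, add_zero]⟩
    rw [(q0Hom F).comm, hd, map_zero]

theorem piece_dvd {s : ℕ} (hs : s < r + 1) {j : ℤ} {p : (MvPolynomial (Fin (r + 1)) k)} (hp : p ∈ (stdGr k (Fin (r + 1))) j) (h : p ∈ firstVars k r (s + 1)) :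
    ∃ c ∈ (stdGr k (Fin (r + 1))) (j - 1), p - X ⟨s, hs⟩ * c ∈ firstVars k r s := by
  rw [firstVars_succ hs] at h
  obtain ⟨a, ha, b, hb, rfl⟩ := Submodule.mem_sup.mp h
  obtain ⟨c, rfl⟩ := Ideal.mem_span_singleton'.mp ha
  refine ⟨P (stdGr k (Fin (r + 1))) (j - 1) c, P_mem _ _ _, ?_⟩
  have hb' : P (stdGr k (Fin (r + 1))) j b ∈ firstVars k r s := isHomogeneous_firstVars s j hb
  have h1 : P (stdGr k (Fin (r + 1))) j (c * X ⟨s, hs⟩) = P (stdGr k (Fin (r + 1))) (j - 1) c * X ⟨s, hs⟩ := by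
    rw [← smul_eq_mul c, P_smul (stdGr k (Fin (r + 1))) (stdGr k (Fin (r + 1))) (X_mem_stdGr _)]
    rfl
  have h2 := (P_eq_self_iff (stdGr k (Fin (r + 1)))).mpr hp
  rw [map_add, h1] at h2
  rw [← h2, mul_comm (X _), add_sub_cancel_left]
  exact hb'

/-- the map from the cone to the next quotient -/
noncomputable def stepHom (s : ℕ) (hs : s < r + 1) :
    Hom (cone (qBC F s) (var k ⟨s, hs⟩)) (qBC F (s + 1)) where
  f := (LinearMap.pi fun i => (LinearMap.pi fun a =>
      (Submodule.factor (firstVars_mono (Nat.le_succ s))) ∘ₗ LinearMap.proj a) ∘ₗ LinearMap.proj i) ∘ₗ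
    LinearMap.snd (MvPolynomial (Fin (r + 1)) k) _ _
  comm z := funext fun i => funext fun a => by
    obtain ⟨u, b⟩ := z
    choose w hw using fun c => Ideal.Quotient.mk_surjective (b (i + 1) c)
    obtain ⟨p, hp⟩ := Ideal.Quotient.mk_surjective (u i a)
    show Submodule.factor (firstVars_mono (Nat.le_succ s))
        ((X ⟨s, hs⟩ : (MvPolynomial (Fin (r + 1)) k)) • u i a - qd F s i (b (i + 1)) a) =
      qd F (s + 1) i (fun c => Submodule.factor (firstVars_mono (Nat.le_succ s)) (b (i + 1) c)) a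
    rw [← hp, show b (i + 1) = fun c => Ideal.Quotient.mk (firstVars k r s) (w c) from funext fun c => (hw c).symm,
      qd_mk, map_sub, map_smul]
    show (X ⟨s, hs⟩ : (MvPolynomial (Fin (r + 1)) k)) • Ideal.Quotient.mk (firstVars k r (s + 1)) p -
      Submodule.factor _ ((-1 : (MvPolynomial (Fin (r + 1)) k)) ^ s • Ideal.Quotient.mk _ (F.dLin i w a)) =
        qd F (s + 1) i (fun c => Ideal.Quotient.mk (firstVars k r (s + 1)) (w c)) a
    rw [qd_mk, map_smul, show (X ⟨s, hs⟩ : (MvPolynomial (Fin (r + 1)) k)) • Ideal.Quotient.mk (firstVars k r (s + 1)) p = 0 from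
      Ideal.Quotient.eq_zero_iff_mem.mpr (Ideal.mul_mem_right _ _
        (Ideal.subset_span ⟨⟨s, hs⟩, Nat.lt_succ_self s, rfl⟩)), zero_sub, pow_succ, mul_neg_one, neg_smul]
    rfl
  mem n e z hz i := by
    have h2 := ((mem_cone _ _).mp hz).2 i
    refine ⟨fun a => ?_, fun h => funext fun a => ?_⟩
    · obtain ⟨p, hp, hpa⟩ := h2.1 a
      refine ⟨p, ?_, ?_⟩
      · rwa [show e + ((s + 1 : ℕ) : ℤ) - F.deg i a = e + 1 + s - F.deg i a by push_cast; ring]
      · show _ = Submodule.factor (firstVars_mono (Nat.le_succ s)) (z.2 i a)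
        rw [← hpa]
        rfl
    · show Submodule.factor (firstVars_mono (Nat.le_succ s)) (z.2 i a) = 0
      rw [h2.2 (by simp only [Nat.cast_succ] at h ⊢; omega), Pi.zero_apply, map_zero]

omit [IsScalarTower k (MvPolynomial (Fin (r + 1)) k) M] in
theorem stepHom_apply (s : ℕ) (hs : s < r + 1) (z) (i : ℕ) (a : Fin (F.rk i)) :
    (stepHom F s hs).f z i a = Submodule.factor (firstVars_mono (Nat.le_succ s)) (z.2 i a) := rfl

omit [IsScalarTower k (MvPolynomial (Fin (r + 1)) k) M] in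
theorem isQ_stepHom (s : ℕ) (hs : s < r + 1) : (stepHom F s hs).IsQ := by
  let x : (MvPolynomial (Fin (r + 1)) k) := X ⟨s, hs⟩
  have hinj : ∀ c c' : (qBC F s).T, x • c = x • c' → c = c' := fun c c' h => funext fun i => funext fun a => by
    obtain ⟨p, hp⟩ := Ideal.Quotient.mk_surjective (c i a)
    obtain ⟨q, hq⟩ := Ideal.Quotient.mk_surjective (c' i a)
    have h1 : x • c i a = x • c' i a := congrFun (congrFun h i) a
    rw [← hp, ← hq] at h1
    have h2 : x * p - x * q ∈ firstVars k r s := Ideal.Quotient.eq.mp h1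
    rw [← mul_sub] at h2
    rw [← hp, ← hq]
    exact Ideal.Quotient.eq.mpr (mem_of_X_mul_mem (j := ⟨s, hs⟩) h2)
  have hdvd : ∀ n e, ∀ z ∈ (qBC F s).C (n - 1) (e + 1), ∀ m, ∀ u : (qBC F s).T, (stepHom F s hs).f (u, z) = m →
      m = 0 → ∃ c ∈ (qBC F s).C (n - 1) e, x • c = z := by
    intro n e z hz m u hum hm
    have hp : ∀ i a, ∃ c : Quo k r s, (∃ p ∈ (stdGr k (Fin (r + 1))) (e + s - F.deg i a), Ideal.Quotient.mk _ p = c) ∧
        x • c = z i a := by
      intro i a
      obtain ⟨p, hp, hpa⟩ := (hz i).1 a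
      have h1 : Submodule.factor (firstVars_mono (Nat.le_succ s)) (z i a) = 0 := by
        have := congrFun (congrFun (hum.trans hm) i) a
        exact this
      rw [← hpa] at h1
      obtain ⟨c, hc, hpc⟩ := piece_dvd hs hp (Ideal.Quotient.eq_zero_iff_mem.mp h1)
      rw [show e + 1 + (s : ℤ) - F.deg i a - 1 = e + s - F.deg i a by ring] at hc
      refine ⟨Ideal.Quotient.mk _ c, ⟨c, hc, rfl⟩, ?_⟩
      rw [← hpa]
      exact (Ideal.Quotient.eq.mpr hpc).symm
    choose c hc hcz using hp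
    refine ⟨fun i a => c i a, fun i => ⟨hc i, fun h => ?_⟩, funext fun i => funext fun a => hcz i a⟩
    have h0 : x • (fun a => c i a) = x • (0 : Fin (F.rk i) → Quo k r s) := by
      rw [smul_zero, ← (hz i).2 h]
      exact funext fun a => hcz i a
    funext a
    obtain ⟨p, hp⟩ := Ideal.Quotient.mk_surjective (c i a)
    have h1 : x • c i a = 0 := (congrFun h0 a).trans (smul_zero x)
    show c i a = 0
    rw [← hp] at h1 ⊢
    exact Ideal.Quotient.eq_zero_iff_mem.mpr (mem_of_X_mul_mem (j := ⟨s, hs⟩) (Ideal.Quotient.eq_zero_iff_mem.mp h1))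
  have hlift : ∀ n e, ∀ w ∈ (qBC F (s + 1)).C n e, ∃ v ∈ (qBC F s).C (n - 1) (e + 1),
      (stepHom F s hs).f (0, v) = w := by
    intro n e w hw
    choose p hp hpw using fun i => (hw i).1
    classical
    refine ⟨fun i a => if (s : ℤ) - i = n - 1 then Ideal.Quotient.mk _ (p i a) else 0,
      fun i => ⟨fun a => ?_, fun h => funext fun a => if_neg h⟩, funext fun i => funext fun a => ?_⟩
    · refine ⟨if (s : ℤ) - i = n - 1 then p i a else 0, ?_, by rw [apply_ite (Ideal.Quotient.mk (firstVars k r s)), map_zero]⟩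
      split_ifs
      · rw [show e + 1 + (s : ℤ) - F.deg i a = e + ((s + 1 : ℕ) : ℤ) - F.deg i a by push_cast; ring]
        exact hp i a
      · exact zero_mem _
    · rw [stepHom_apply]
      show Submodule.factor _ (if (s : ℤ) - i = n - 1 then _ else _) = w i a
      split_ifs with h
      · exact hpw i a
      · rw [map_zero, (hw i).2 (by simp only [Nat.cast_succ]; omega)]
        rfl
  refine ⟨fun n e z hz hd w hw hwz => ?_, fun n e z hz hd => ?_⟩
  · obtain ⟨a, b⟩ := z
    obtain ⟨-, hb⟩ := (mem_cone _ _).mp hz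
    obtain ⟨-, hdb⟩ := cone_d_zero _ _ hd
    obtain ⟨v, hv, rfl⟩ := hlift _ _ w hw
    have hv' : (qBC F s).d v ∈ (qBC F s).C (n - 1) (e + 1) := (qBC F s).d_mem' hv
    rw [← (stepHom F s hs).comm, cone_d] at hwz
    obtain ⟨c, hc, hcz⟩ := hdvd n e (b + (qBC F s).d v) (add_mem hb hv') _ 0 rfl (by
      have h0 : (stepHom F s hs).f (0, b + (qBC F s).d v) =
          (stepHom F s hs).f (a, b) - (stepHom F s hs).f ((qBC F s).d 0, x • (0 : (qBC F s).T) - (qBC F s).d v) := by
        funext i; funext c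
        rw [Pi.sub_apply, Pi.sub_apply, stepHom_apply, stepHom_apply, stepHom_apply, ← map_sub]
        congr 1
        rw [smul_zero, zero_sub]
        show b i c + (qBC F s).d v i c = b i c - -((qBC F s).d v i c)
        rw [sub_neg_eq_add]
      rw [h0]
      exact sub_eq_zero.mpr hwz.symm)
    refine ⟨(c, v), (mem_cone _ _).mpr ⟨hc, hv⟩, (cone_d _ _ _).trans (Prod.ext (hinj _ _ ?_) ?_)⟩
    · show x • (qBC F s).d c = x • a
      rw [← map_smul, hcz, map_add, (qBC F s).d_d, add_zero, hdb]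
    · show x • c - (qBC F s).d v = b
      rw [hcz, add_sub_cancel_right]
  · obtain ⟨v, hv, rfl⟩ := hlift _ _ z hz
    rw [← (stepHom F s hs).comm, cone_d] at hd
    have hdv : (qBC F s).d v ∈ (qBC F s).C n (e + 1) := (qBC F s).d_mem' hv
    obtain ⟨c, hc, hcz⟩ := hdvd (n + 1) e ((qBC F s).d v) (by simpa using hdv) _ 0 rfl (by
      have h0 : (stepHom F s hs).f (0, (qBC F s).d v) =
          -(stepHom F s hs).f ((qBC F s).d 0, x • (0 : (qBC F s).T) - (qBC F s).d v) := by
        funext i; funext c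
        rw [Pi.neg_apply, Pi.neg_apply, stepHom_apply, stepHom_apply, ← map_neg]
        congr 1
        rw [smul_zero, zero_sub]
        show (qBC F s).d v i c = - -((qBC F s).d v i c)
        rw [neg_neg]
      rw [h0]
      exact neg_eq_zero.mpr hd)
    refine ⟨(c, v), (mem_cone _ _).mpr ⟨by simpa using hc, hv⟩, (cone_d _ _ _).trans (Prod.ext (hinj _ _ ?_) ?_),
      0, zero_mem _, ?_⟩
    · show x • (qBC F s).d c = x • (0 : (qBC F s).T)
      rw [← map_smul, hcz, (qBC F s).d_d, smul_zero]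
    · show x • c - (qBC F s).d v = 0
      rw [hcz, sub_self]
    · rw [map_zero, add_zero]
      exact funext fun i => funext fun a => rfl

omit [IsScalarTower k (MvPolynomial (Fin (r + 1)) k) M] in
theorem ex_iff_drop (s : ℕ) (hs : s ≤ r + 1) (n e : ℤ) :
    (coneL (vars k r) (modBC ℳ)).Ex n e ↔ (coneL ((vars k r).drop s) (qBC F s)).Ex n e := by
  induction s with
  | zero =>
    rw [List.drop_zero, ← ex_coneL_iff (isQ_resHom F), ex_coneL_iff (isQ_q0Hom F)]
  | succ s ih =>
    rw [ih (Nat.le_of_succ_le hs), drop_vars (Nat.lt_of_succ_le hs)]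
    exact ex_coneL_iff (isQ_stepHom F s (Nat.lt_of_succ_le hs)) _ n e

/-- Koszul cohomology of `M` is read off a minimal resolution -/
theorem ex_iff_deg (hF : F.IsMinimal (irrel (stdGr k (Fin (r + 1)))).toIdeal) (n e : ℤ) :
    (coneL (vars k r) (modBC ℳ)).Ex n e ↔
      ∀ (i : ℕ) (a : Fin (F.rk i)), ((r + 1 : ℕ) : ℤ) - i = n → F.deg i a ≠ e + ((r + 1 : ℕ) : ℤ) := by
  classical
  rw [ex_iff_drop F (r + 1) le_rfl, List.drop_eq_nil_of_le (by rw [length_vars]), coneL]
  have hd0 : ∀ f, (qBC F (r + 1)).d f = 0 := fun f => funext fun i => funext fun a => by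
    choose w hw using fun c => Ideal.Quotient.mk_surjective (f (i + 1) c)
    show qd F (r + 1) i (f (i + 1)) a = 0
    rw [show f (i + 1) = fun c => Ideal.Quotient.mk (firstVars k r (r + 1)) (w c) from funext fun c => (hw c).symm,
      qd_mk, Ideal.Quotient.eq_zero_iff_mem.mpr ?_, smul_zero]
    rw [firstVars_top, Matrix.mulVecLin_apply]
    simp only [Matrix.mulVec, dotProduct]
    exact Ideal.sum_mem _ fun b _ => Ideal.mul_mem_right _ _ (hF i a b)
  constructor
  · intro h i a hi ha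
    let v : Fin (F.rk i) → Quo k r (r + 1) := fun c => if c = a then 1 else 0
    have hmem : Pi.single i v ∈ (qBC F (r + 1)).C n e := by
      refine single_mem_piecesOf (S := qS F (r + 1)) (fun c => ?_) hi
      by_cases hc : c = a
      · refine ⟨1, ?_, by simp [v, hc]⟩
        rw [hc, ha, sub_self]
        exact SetLike.GradedOne.one_mem
      · exact ⟨0, zero_mem _, by simp [v, hc]⟩
    obtain ⟨w, -, hw⟩ := h _ hmem (hd0 _)
    rw [hd0] at hw
    have h1 : (0 : Quo k r (r + 1)) = 1 := by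
      have h2 : (0 : Quo k r (r + 1)) = (Pi.single i v : ∀ i, Fin (F.rk i) → Quo k r (r + 1)) i a :=
        congrFun (congrFun hw i) a
      rwa [Pi.single_eq_same, show v a = 1 from if_pos rfl] at h2
    have h3 : (1 : (MvPolynomial (Fin (r + 1)) k)) ∈ firstVars k r (r + 1) := Ideal.Quotient.eq_zero_iff_mem.mp (by rw [map_one]; exact h1.symm)
    rw [mem_firstVars_top, map_one] at h3
    exact one_ne_zero h3
  · intro h f hf _
    refine ⟨0, zero_mem _, ?_⟩
    rw [map_zero]
    funext i; funext a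
    by_cases hi : ((r + 1 : ℕ) : ℤ) - i = n
    · obtain ⟨p, hp, hpa⟩ := (hf i).1 a
      rw [← hpa]
      refine (Ideal.Quotient.eq_zero_iff_mem.mpr ?_).symm
      rw [firstVars_top]
      exact mem_irrel_of_mem (sub_ne_zero.mpr (h i a hi).symm) hp
    · rw [(hf i).2 hi]
      rfl

theorem kle_iff_isGenLE (hF : F.IsMinimal (irrel (stdGr k (Fin (r + 1)))).toIdeal) (d : ℤ) : KLE (r := r) ℳ d ↔ F.IsGenLE d := by
  refine ⟨fun h i b => ?_, fun h n e he => (ex_iff_deg F hF n e).mpr fun i a hi ha => ?_⟩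
  · by_contra hc
    exact (ex_iff_deg F hF (((r + 1 : ℕ) : ℤ) - i) (F.deg i b - ((r + 1 : ℕ) : ℤ))).mp
      (h _ _ (by push Not at hc; omega)) i b rfl (by ring)
  · have := h i a
    omega

end Free

variable [DirectSum.Decomposition ℳ] [IsScalarTower k (MvPolynomial (Fin (r + 1)) k) M] [Module.Finite (MvPolynomial (Fin (r + 1)) k) M]

omit [IsScalarTower k (MvPolynomial (Fin (r + 1)) k) M] in
theorem exists_minimal_res : ∃ F : FreeRes (stdGr k (Fin (r + 1))) ℳ, F.IsMinimal (irrel (stdGr k (Fin (r + 1)))).toIdeal := by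
  obtain ⟨F, -, hF⟩ := exists_resolution (𝒜 := (stdGr k (Fin (r + 1)))) (ℳ := ℳ) (fun a ha => isUnit_of_mem_stdGr_zero a ha)
  refine ⟨F, fun i a b => (mem_irrel_iff _).mpr ?_⟩
  have h := hF i a b
  rw [P_zero_eq] at h
  exact C_injective _ _ (h.trans C_0.symm)

theorem isRegLE_iff_kle (d : ℤ) : IsRegLE (stdGr k (Fin (r + 1))) ℳ (irrel (stdGr k (Fin (r + 1)))).toIdeal d ↔ KLE (r := r) ℳ d := by
  obtain ⟨F, hF⟩ := exists_minimal_res (r := r) ℳ
  rw [isRegLE_iff F hF, kle_iff_isGenLE F hF]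

theorem ex_of_lt {n : ℤ} (hn : ((r + 1 : ℕ) : ℤ) < n) (e : ℤ) : (coneL (vars k r) (modBC (r := r) ℳ)).Ex n e := by
  obtain ⟨F, hF⟩ := exists_minimal_res (r := r) ℳ
  exact (ex_iff_deg F hF n e).mpr fun i a hi => absurd hi (by omega)

theorem exists_kle : ∃ d, KLE (r := r) ℳ d := by
  obtain ⟨F, hF⟩ := exists_minimal_res (r := r) ℳ
  obtain ⟨d, hd⟩ := exists_isGenLE F (hasLengthLE_of_isMinimal F hF)
  exact ⟨d, (kle_iff_isGenLE F hF d).mpr hd⟩

omit [DirectSum.Decomposition ℳ] [IsScalarTower k (MvPolynomial (Fin (r + 1)) k) M] [Module.Finite (MvPolynomial (Fin (r + 1)) k) M] in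
theorem KLE.mono {d d' : ℤ} (h : KLE (r := r) ℳ d) (hd : d ≤ d') : KLE (r := r) ℳ d' := fun n e he => h n e (by omega)

end Groth.Agent.H3CAlg.KC
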