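import Groth.Agent.H3CAlg.KC.Koszul
import Groth.Agent.H3CAlg.KC.Graded

/-!
# Graded local cohomology with support at the variables, and Koszul cohomology
-/

namespace Groth.Agent.H3CAlg.KC

universe u

open MvPolynomial GrSyz Groth.Agent.H3CAlg.Syz

variable {k : Type u} [Field k] {r : ℕ}

section Smul

variable {X : Type u} [AddCommGroup X] [Module (MvPolynomial (Fin (r + 1)) k) X] {τ : Type u} [SetLike τ X]
  [AddSubgroupClass τ X] (𝒳 : ℤ → τ) [DirectSum.Decomposition 𝒳] [SetLike.GradedSMul (stdGr k (Fin (r + 1))) 𝒳]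

theorem smul_P {m : ℤ} {c : MvPolynomial (Fin (r + 1)) k} (hc : c ∈ stdGr k (Fin (r + 1)) m) (g : ℤ) (w : X) :
    c • P 𝒳 g w = P 𝒳 (g + m) (c • w) := by
  obtain ⟨s, hs⟩ := exists_sum_P 𝒳 w
  conv_lhs => rw [hs, map_sum, Finset.smul_sum]
  conv_rhs => rw [hs, Finset.smul_sum, map_sum]
  refine Finset.sum_congr rfl fun i _ => ?_
  rw [P_smul (stdGr k (Fin (r + 1))) 𝒳 (P_mem 𝒳 i w), P_of_mem 𝒳 (P_mem 𝒳 i w),
    P_of_mem (stdGr k (Fin (r + 1))) hc]
  by_cases h : i = g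
  · rw [if_pos h, if_pos (by omega)]
  · rw [if_neg h, if_neg (by omega), smul_zero, zero_smul]

end Smul

/-- elements killed by powers of each of the first `s` variables -/
def torS (X : Type u) [AddCommGroup X] [Module (MvPolynomial (Fin (r + 1)) k) X] (s : ℕ) :
    Submodule (MvPolynomial (Fin (r + 1)) k) X where
  carrier := {z | ∀ v : Fin (r + 1), v.val < s → ∃ N : ℕ, (MvPolynomial.X v : MvPolynomial (Fin (r + 1)) k) ^ N • z = 0}
  zero_mem' _ _ := ⟨0, smul_zero _⟩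
  add_mem' {a b} ha hb v hv := by
    obtain ⟨N, hN⟩ := ha v hv
    obtain ⟨K, hK⟩ := hb v hv
    exact ⟨N + K, by rw [smul_add, pow_add, mul_smul, mul_smul, hK, smul_zero, add_zero, smul_comm, hN, smul_zero]⟩
  smul_mem' c a ha v hv := by
    obtain ⟨N, hN⟩ := ha v hv
    exact ⟨N, by rw [smul_comm, hN, smul_zero]⟩

variable {X : Type u} [AddCommGroup X] [Module (MvPolynomial (Fin (r + 1)) k) X]

theorem mem_torS {s : ℕ} {z : X} : z ∈ torS (k := k) (r := r) X s ↔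
    ∀ v : Fin (r + 1), v.val < s → ∃ N : ℕ, (MvPolynomial.X v : MvPolynomial (Fin (r + 1)) k) ^ N • z = 0 := Iff.rfl

theorem torS_mono {s t : ℕ} (h : s ≤ t) : torS (k := k) (r := r) X t ≤ torS X s :=
  fun _ hz v hv => hz v (lt_of_lt_of_le hv h)

theorem torS_zero (z : X) : z ∈ torS (k := k) (r := r) X 0 := fun _ hv => absurd hv (Nat.not_lt_zero _)

/-- torsion at the irrelevant ideal is torsion at every variable -/
theorem mem_gam_iff {z : X} :
    z ∈ GrLC.gam (irrel (stdGr k (Fin (r + 1)))).toIdeal X ↔ z ∈ torS (k := k) (r := r) X (r + 1) := by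
  constructor
  · rintro ⟨N, hN⟩ v -
    refine ⟨N, hN _ (Ideal.pow_mem_pow ((mem_irrel_iff _).mpr ?_) N)⟩
    simp
  · intro h
    choose N hN using fun v : Fin (r + 1) => h v v.isLt
    let A : Ideal (MvPolynomial (Fin (r + 1)) k) :=
      LinearMap.ker (LinearMap.toSpanSingleton (MvPolynomial (Fin (r + 1)) k) X z)
    have hrad : (irrel (stdGr k (Fin (r + 1)))).toIdeal ≤ A.radical := by
      rw [← firstVars_top, firstVars, Ideal.span_le]
      rintro _ ⟨v, -, rfl⟩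
      exact ⟨N v, by simpa [A] using hN v⟩
    obtain ⟨n, hn⟩ := Ideal.exists_pow_le_of_le_radical_of_fg hrad (IsNoetherian.noetherian _)
    exact ⟨n, fun c hc => by simpa [A] using hn hc⟩

variable {M : Type u} [AddCommGroup M] [Module k M] [Module (MvPolynomial (Fin (r + 1)) k) M]
  {ℳ : ℤ → Submodule k M} [DirectSum.Decomposition ℳ] [SetLike.GradedSMul (stdGr k (Fin (r + 1))) ℳ]
  (E : GrLC.StarInjRes (stdGr k (Fin (r + 1))) ℳ)

/-- the terms of the resolution, torsion at the first `s` variables -/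
noncomputable def gamData (s : ℕ) : SeqData (Lv k r) (fun i => (E.X i).carrier) where
  d := E.d
  S i e := (E.X i).gr e ⊓ (torS (E.X i).carrier s).toAddSubgroup
  d_d i z := LinearMap.mem_ker.mp ((E.exact_succ i).ge (LinearMap.mem_range_self _ z))
  d_mem i e z hz := ⟨E.d_grHom i e z hz.1, fun v hv => by
    obtain ⟨N, hN⟩ := hz.2 v hv
    exact ⟨N, by rw [← map_smul, hN, map_zero]⟩⟩
  smul_mem y hy i e z hz := ⟨smul_mem_piece (E.X i).gr hy hz.1, Submodule.smul_mem _ y hz.2⟩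

/-- the complex `Γ(E)` at the first `s` variables -/
noncomputable abbrev gamBC (s : ℕ) : BC (MvPolynomial (Fin (r + 1)) k) (Lv k r) := ofSeq (gamData E s)

theorem mem_gamS {s i : ℕ} {e : ℤ} {z : (E.X i).carrier} :
    z ∈ (gamData E s).S i e ↔ z ∈ (E.X i).gr e ∧ z ∈ torS (k := k) (r := r) (E.X i).carrier s := Iff.rfl

/-- inclusion of torsion subcomplexes -/
noncomputable def gamHom (s : ℕ) : Hom (gamBC E (s + 1)) (gamBC E s) where
  f := LinearMap.id
  comm _ := rfl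
  mem n e f hf i := ⟨⟨(hf i).1.1, torS_mono (Nat.le_succ s) (hf i).1.2⟩, (hf i).2⟩

theorem subDiv_gamHom (s : ℕ) (hs : s < r + 1) :
    (gamHom E s).SubDiv ((var k ⟨s, hs⟩ : Lv k r) : MvPolynomial (Fin (r + 1)) k) := by
  refine ⟨fun a b h => h, fun n e z' hz' u hu hyu => ⟨z', fun i => ⟨⟨(hz' i).1.1, fun v hv => ?_⟩, (hz' i).2⟩, rfl⟩,
    fun n e z' hz' => ?_⟩
  · rcases Nat.lt_succ_iff_lt_or_eq.mp hv with h | h
    · exact (hz' i).1.2 v h
    · obtain ⟨N, hN⟩ := (hu i).1.2 v hv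
      have h1 : (MvPolynomial.X ⟨s, hs⟩ : MvPolynomial (Fin (r + 1)) k) • z' i = u i := congrFun hyu i
      refine ⟨N + 1, ?_⟩
      rw [pow_succ, mul_smul, show v = ⟨s, hs⟩ from Fin.ext h] at *
      rw [h1, hN]
  · classical
    have hq : ∀ i : ℕ, ∃ q : (E.X i).carrier, q ∈ (gamData E s).S i e ∧
        z' i - (MvPolynomial.X ⟨s, hs⟩ : MvPolynomial (Fin (r + 1)) k) • q ∈ torS (k := k) (r := r) (E.X i).carrier (s + 1) := by
      intro i
      choose N hN using fun v : {v : Fin (r + 1) // v.val < s} => (hz' i).1.2 v.1 v.2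
      let J : Ideal (MvPolynomial (Fin (r + 1)) k) :=
        Ideal.span (Set.range fun v : {v : Fin (r + 1) // v.val < s} => MvPolynomial.X v.1 ^ N v)
      have hJ : J.IsHomogeneous (stdGr k (Fin (r + 1))) := Ideal.homogeneous_span _ _ (by
        rintro _ ⟨v, rfl⟩
        exact ⟨_, SetLike.pow_mem_graded (A := stdGr k (Fin (r + 1))) (N v) (X_mem_stdGr v.1)⟩)
      have hJz : ∀ a ∈ J, a • z' i = 0 := fun a ha => by
        have : J ≤ LinearMap.ker (LinearMap.toSpanSingleton (MvPolynomial (Fin (r + 1)) k) _ (z' i)) := by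
          rw [Ideal.span_le]
          rintro _ ⟨v, rfl⟩
          simpa using hN v
        simpa using this ha
      obtain ⟨K, q, hq, hJq, hqz⟩ := starInj_div (E.X i).gr (E.starInj i) J hJ (X_mem_stdGr ⟨s, hs⟩) (hz' i).1.1 hJz
      refine ⟨q, ⟨hq, fun v hv => ⟨N ⟨v, hv⟩, hJq _ (Ideal.subset_span ⟨⟨v, hv⟩, rfl⟩)⟩⟩, fun v hv => ?_⟩
      rcases Nat.lt_succ_iff_lt_or_eq.mp hv with h | h
      · refine ⟨N ⟨v, h⟩, ?_⟩
        rw [smul_sub, hN ⟨v, h⟩, smul_comm, hJq _ (Ideal.subset_span ⟨⟨v, h⟩, rfl⟩), smul_zero, sub_zero]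
      · refine ⟨K, ?_⟩
        rw [show v = ⟨s, hs⟩ from Fin.ext h, smul_sub, smul_smul, ← pow_succ, hqz, sub_self]
    choose q hq hu using hq
    refine ⟨fun i => if (i : ℤ) = n then q i else 0, fun i => ⟨?_, fun h => if_neg h⟩,
      fun i => if (i : ℤ) = n then z' i - (MvPolynomial.X ⟨s, hs⟩ : MvPolynomial (Fin (r + 1)) k) • q i else 0,
      fun i => ⟨?_, fun h => if_neg h⟩, funext fun i => ?_⟩
    · by_cases h : (i : ℤ) = n
      · simp only [if_pos h]; exact hq i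
      · simp only [if_neg h]; exact zero_mem _
    · by_cases h : (i : ℤ) = n
      · simp only [if_pos h]
        exact (mem_gamS E).mpr ⟨sub_mem (show z' i ∈ (E.X i).gr (e + 1) from (hz' i).1.1) (smul_mem_piece (E.X i).gr (X_mem_stdGr _) (hq i).1), hu i⟩
      · simp only [if_neg h]; exact zero_mem _
    · show z' i = (MvPolynomial.X ⟨s, hs⟩ : MvPolynomial (Fin (r + 1)) k) • (if (i : ℤ) = n then q i else 0) +
        (if (i : ℤ) = n then z' i - (MvPolynomial.X ⟨s, hs⟩ : MvPolynomial (Fin (r + 1)) k) • q i else 0)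
      by_cases h : (i : ℤ) = n
      · rw [if_pos h, if_pos h, add_sub_cancel]
      · rw [if_neg h, if_neg h, (hz' i).2 h, smul_zero, add_zero]

theorem ex_gam_succ (s : ℕ) (hs : s < r + 1) (n e : ℤ) :
    (coneL (vars k r) (gamBC E (s + 1))).Ex n e ↔ (coneL (vars k r) (gamBC E s)).Ex n e := by
  rw [← List.take_append_drop s (vars k r), coneL_append, coneL_append, drop_vars hs]
  exact ex_coneL_iff (((subDiv_gamHom E s hs).coneL ((vars k r).take s)).isQ) _ n e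

/-- coaugmentation -/
noncomputable def epsHom : Hom (modBC (r := r) ℳ) (gamBC E 0) :=
  coaugHom (gamData E 0) E.ε (fun e z hz => ⟨E.ε_grHom e z hz, torS_zero _⟩)
    (fun m => LinearMap.mem_ker.mp (E.exact_zero.ge (LinearMap.mem_range_self _ m)))

theorem isQ_epsHom : (epsHom E).IsQ := by
  refine isQ_coaugHom _ _ _ _ E.ε_injective (fun e z hz hd => ?_) fun i e z hz hd => ?_
  · obtain ⟨m, hm⟩ := E.exact_zero.le (LinearMap.mem_ker.mpr hd)
    exact exists_homog_preimage ℳ (E.X 0).gr E.ε E.ε_grHom hz.1 hm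
  · obtain ⟨w, hw⟩ := (E.exact_succ i).le (LinearMap.mem_ker.mpr hd)
    obtain ⟨w', hw', hwz⟩ := exists_homog_preimage (E.X i).gr (E.X (i + 1)).gr (E.d i) (E.d_grHom i) hz.1 hw
    exact ⟨w', ⟨hw', torS_zero _⟩, hwz⟩

theorem ex_gam_iff (n e : ℤ) :
    (coneL (vars k r) (gamBC E (r + 1))).Ex n e ↔ (coneL (vars k r) (modBC (r := r) ℳ)).Ex n e := by
  rw [ex_coneL_iff (isQ_epsHom E)]
  suffices h : ∀ s, s ≤ r + 1 → ((coneL (vars k r) (gamBC E s)).Ex n e ↔ (coneL (vars k r) (gamBC E 0)).Ex n e) from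
    h (r + 1) le_rfl
  intro s hs
  induction s with
  | zero => rfl
  | succ s ih => exact (ex_gam_succ E s (by omega) n e).trans (ih (by omega))

theorem tor_gam (y : Lv k r) (hy : y ∈ vars k r) : (gamBC E (r + 1)).Tor (y : MvPolynomial (Fin (r + 1)) k) := by
  obtain ⟨v, -, rfl⟩ := List.mem_map.mp hy
  intro n e f hf _
  by_cases hn : ∃ i : ℕ, (i : ℤ) = n
  · obtain ⟨i, rfl⟩ := hn
    obtain ⟨N, hN⟩ := (hf i).1.2 v v.isLt
    refine ⟨N, 0, zero_mem _, ?_⟩
    rw [map_zero, eq_single Nat.cast_injective (i := i) hf, ← Pi.single_smul, hN, Pi.single_zero]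
  · push Not at hn
    exact ⟨0, 0, zero_mem _, by rw [map_zero, eq_zero_of_piecesOf hf hn, smul_zero]⟩

theorem Hcomp_eq_bot_iff (i : ℕ) (g : ℤ) :
    E.Hcomp (irrel (stdGr k (Fin (r + 1)))) i g = ⊥ ↔ (gamBC E (r + 1)).Ex (i : ℤ) g := by
  have hH : E.Hcomp (irrel (stdGr k (Fin (r + 1)))) i g = ⊥ ↔
      ∀ z : (E.X i).carrier, z ∈ (gamData E (r + 1)).S i g → E.d i z = 0 →
        z ∈ E.cobdy (irrel (stdGr k (Fin (r + 1)))) i := by
    constructor
    · intro h z hz hd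
      have hmem : z ∈ E.cocyc (irrel (stdGr k (Fin (r + 1)))) i := ⟨mem_gam_iff.mpr hz.2, hd⟩
      have h1 : E.toH _ i ⟨z, hmem⟩ = 0 := (Submodule.eq_bot_iff _).mp h _ ⟨⟨z, hmem⟩, hz.1, rfl⟩
      have h2 : (⟨z, hmem⟩ : E.cocyc (irrel (stdGr k (Fin (r + 1)))) i) ∈
          LinearMap.ker (E.toH (irrel (stdGr k (Fin (r + 1)))) i) := h1
      rw [Submodule.ker_mkQ] at h2
      exact h2
    · intro h
      refine (Submodule.eq_bot_iff _).mpr ?_
      rintro _ ⟨z, hz, rfl⟩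
      exact (Submodule.Quotient.mk_eq_zero _).mpr
        (h z ⟨hz, mem_gam_iff.mp z.2.1⟩ (LinearMap.mem_ker.mp z.2.2))
  rw [hH]
  rcases i with _ | i
  · rw [Nat.cast_zero, ofSeq_ex_zero]
    rfl
  · rw [ofSeq_ex_succ]
    refine forall_congr' fun z => forall_congr' fun hz => imp_congr_right fun _ => ?_
    constructor
    · rintro ⟨w, hw, rfl⟩
      refine ⟨P (E.X i).gr g w, ⟨P_mem (E.X i).gr g w, fun v hv => ?_⟩, ?_⟩
      · obtain ⟨N, hN⟩ := mem_gam_iff.mp hw v hv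
        refine ⟨N, ?_⟩
        rw [smul_P (E.X i).gr (SetLike.pow_mem_graded (A := stdGr k (Fin (r + 1))) N (X_mem_stdGr v)), hN, map_zero]
      · show E.d i (P (E.X i).gr g w) = E.d i w
        rw [map_P (E.X i).gr (E.X (i + 1)).gr (E.d i) (E.d_grHom i), P_of_mem _ hz.1, if_pos rfl]
    · rintro ⟨w, hw, rfl⟩
      exact ⟨w, mem_gam_iff.mpr hw.2, rfl⟩

theorem hcomp_vanish_iff_kle (d : ℤ) :
    (∀ (i : ℕ) (g : ℤ), d < g + i → E.Hcomp (irrel (stdGr k (Fin (r + 1)))) i g = ⊥) ↔ KLE (r := r) ℳ d := by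
  constructor
  · intro h n e he
    rw [← ex_gam_iff E]
    refine coneL_ex (vars k r) (gamBC E (r + 1)) (D := d) (fun n e he => ?_) n e he
    rcases lt_or_ge n 0 with hn | hn
    · exact ofSeq_ex_neg _ hn e
    · obtain ⟨i, rfl⟩ : ∃ i : ℕ, (i : ℤ) = n := ⟨n.toNat, by omega⟩
      exact (Hcomp_eq_bot_iff E i e).mp (h i e he)
  · intro h i g hg
    rw [Hcomp_eq_bot_iff E]
    exact ex_of_coneL (vars k r) (gamBC E (r + 1)) (D := d) (fun y hy => tor_gam E y hy)
      (fun n e he => (ex_gam_iff E n e).mpr (h n e he)) i g (by omega)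

theorem hcomp_weak [IsScalarTower k (MvPolynomial (Fin (r + 1)) k) M] [Module.Finite (MvPolynomial (Fin (r + 1)) k) M] {d : ℤ}
    (hw : ∀ i : ℕ, 0 < i → E.Hcomp (irrel (stdGr k (Fin (r + 1)))) i (d - i + 1) = ⊥) :
    ∀ i : ℕ, 0 < i → ∀ g : ℤ, d < g + i → E.Hcomp (irrel (stdGr k (Fin (r + 1)))) i g = ⊥ := by
  suffices h : ∀ t : ℕ, ∀ n : ℤ, 1 ≤ n → (gamBC E (r + 1)).Ex n (d + 1 + t - n) by
    intro i hi g hg
    rw [Hcomp_eq_bot_iff E]
    have := h (g + i - d - 1).toNat i (by omega)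
    rwa [show d + 1 + ((g + i - d - 1).toNat : ℤ) - i = g by omega] at this
  intro t
  induction t with
  | zero =>
    intro n hn
    obtain ⟨i, rfl⟩ : ∃ i : ℕ, (i : ℤ) = n := ⟨n.toNat, by omega⟩
    rw [← Hcomp_eq_bot_iff E, show d + 1 + ((0 : ℕ) : ℤ) - (i : ℤ) = d - i + 1 by push_cast; ring]
    exact hw i (by omega)
  | succ t ih =>
    intro n hn
    rw [show d + 1 + ((t + 1 : ℕ) : ℤ) - n = d + 1 + t - n + 1 by push_cast; ring]
    refine ex_step (vars k r) (gamBC E (r + 1)) (d + 1 + t) 1 ih (fun m e hm => ?_) n hn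
    rw [ex_gam_iff E]
    exact ex_of_lt ℳ (by rw [length_vars] at hm; omega) e

end Groth.Agent.H3CAlg.KC
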