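import Groth.Agent.H3CAlg.KC.Quot
import Mathlib.RingTheory.Length
import Mathlib.LinearAlgebra.FiniteDimensional.Lemmas

/-!
# Length of torsion modules over a polynomial ring
-/

namespace Groth.Agent.H3CAlg.KC

universe u

open MvPolynomial GrSyz Groth.Agent.H3CAlg.Syz

variable {k : Type u} [Field k] {r : ℕ}

theorem length_eq_of_torsion (M : Type u) [AddCommGroup M] [Module (MvPolynomial (Fin (r + 1)) k) M]
    (hM : IsFiniteLength (MvPolynomial (Fin (r + 1)) k) M) :
    ∀ [Module k M] [IsScalarTower k (MvPolynomial (Fin (r + 1)) k) M],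
      (∀ (v : Fin (r + 1)) (m : M), ∃ N : ℕ, (X v : MvPolynomial (Fin (r + 1)) k) ^ N • m = 0) →
        Module.length k M = Module.length (MvPolynomial (Fin (r + 1)) k) M := by
  induction hM with
  | @of_subsingleton M _ _ _ =>
    intro _ _ _
    rw [Module.length_eq_zero, Module.length_eq_zero]
  | @of_simple_quotient M _ _ N hsimple hN ih =>
    intro _ _ ht
    have hex := LinearMap.exact_subtype_mkQ N
    rw [Module.length_eq_add_of_exact N.subtype N.mkQ N.injective_subtype N.mkQ_surjective hex,
      Module.length_eq_add_of_exact (N.subtype.restrictScalars k) (N.mkQ.restrictScalars k) N.injective_subtype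
        N.mkQ_surjective hex,
      ih fun v m => by obtain ⟨K, hK⟩ := ht v m; exact ⟨K, Subtype.ext hK⟩]
    congr 1
    rw [Module.length_eq_one_iff.mpr hsimple, Module.length_eq_one_iff]
    obtain ⟨hnt, hmin⟩ : Nontrivial (M ⧸ N) ∧ ∀ W : Submodule (MvPolynomial (Fin (r + 1)) k) (M ⧸ N), W = ⊥ ∨ W = ⊤ :=
      ⟨IsSimpleModule.nontrivial (MvPolynomial (Fin (r + 1)) k) (M ⧸ N), fun W => eq_bot_or_eq_top W⟩
    have hkill : ∀ (v : Fin (r + 1)) (q : M ⧸ N), (X v : MvPolynomial (Fin (r + 1)) k) • q = 0 := by
      intro v q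
      rcases hmin (LinearMap.range ((X v : MvPolynomial (Fin (r + 1)) k) • (LinearMap.id : M ⧸ N →ₗ[MvPolynomial (Fin (r + 1)) k] M ⧸ N))) with h | h
      · exact (Submodule.eq_bot_iff _).mp h _ ⟨q, rfl⟩
      · exfalso
        obtain ⟨q₀, hq₀⟩ := exists_ne (0 : M ⧸ N)
        obtain ⟨m, hm⟩ := Submodule.Quotient.mk_surjective N q₀
        obtain ⟨K, hK⟩ := ht v m
        have hsp : Submodule.span (MvPolynomial (Fin (r + 1)) k) {q₀} = ⊤ :=
          (hmin _).resolve_left fun hb => hq₀ (by simpa using hb)
        have hiter : ∀ j : ℕ, ∃ q₁, (X v : MvPolynomial (Fin (r + 1)) k) ^ j • q₁ = q₀ := by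
          intro j
          induction j with
          | zero => exact ⟨q₀, by rw [pow_zero, one_smul]⟩
          | succ j ih =>
            obtain ⟨q₁, hq₁⟩ := ih
            obtain ⟨q₂, hq₂⟩ := h.ge (Submodule.mem_top (x := q₁))
            refine ⟨q₂, ?_⟩
            rw [pow_succ, mul_smul]
            simp only [LinearMap.smul_apply, LinearMap.id_apply] at hq₂
            rw [hq₂, hq₁]
        obtain ⟨q₁, hq₁⟩ := hiter K
        obtain ⟨a, rfl⟩ := Submodule.mem_span_singleton.mp (hsp.ge (Submodule.mem_top (x := q₁)))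
        rw [smul_comm, ← hm, ← Submodule.Quotient.mk_smul, hK, Submodule.Quotient.mk_zero, smul_zero] at hq₁
        exact hq₀ (by rw [← hm]; exact hq₁.symm)
    have hact : ∀ (p : MvPolynomial (Fin (r + 1)) k) (q : M ⧸ N), p • q = constantCoeff p • q := by
      intro p q
      have h1 : p - C (constantCoeff p) ∈ firstVars k r (r + 1) := by
        rw [mem_firstVars_top, map_sub, constantCoeff_C, sub_self]
      have h2 : firstVars k r (r + 1) ≤ LinearMap.ker (LinearMap.toSpanSingleton (MvPolynomial (Fin (r + 1)) k) _ q) := by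
        rw [firstVars, Ideal.span_le]
        rintro _ ⟨v, -, rfl⟩
        simpa using hkill v q
      have h3 : (p - C (constantCoeff p)) • q = 0 := by simpa using h2 h1
      rw [sub_smul, sub_eq_zero] at h3
      rw [h3]
      exact algebraMap_smul (MvPolynomial (Fin (r + 1)) k) (constantCoeff p) q
    rw [isSimpleModule_iff]
    refine { toNontrivial := inferInstance, eq_bot_or_eq_top := fun W => ?_ }
    rcases hmin { carrier := (W : Set (M ⧸ N)), add_mem' := fun ha hb => W.add_mem ha hb, zero_mem' := W.zero_mem,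
                  smul_mem' := fun p q hq => by rw [hact]; exact W.smul_mem _ hq } with h | h
    · left
      exact (Submodule.eq_bot_iff _).mpr fun q hq => (Submodule.eq_bot_iff _).mp h q hq
    · right
      exact eq_top_iff.mpr fun q _ => h.ge (Submodule.mem_top (x := q))

theorem sum_finrank_le {V : Type u} [AddCommGroup V] [Module k V] [Module.Finite k V] (W : ℤ → Submodule k V)
    [DirectSum.Decomposition W] (s : Finset ℤ) : ∑ e ∈ s, Module.finrank k (W e) ≤ Module.finrank k V := by
  classical
  have hind : iSupIndep W := (DirectSum.Decomposition.isInternal W).submodule_iSupIndep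
  suffices h : ∑ e ∈ s, Module.finrank k (W e) ≤ Module.finrank k ↥(s.sup W) from h.trans (Submodule.finrank_le _)
  induction s using Finset.induction_on with
  | empty => simp
  | insert a s ha ih =>
    have hdis : Disjoint (W a) (s.sup W) :=
      (hind a).mono_right (Finset.sup_le fun b hb => le_iSup₂ (f := fun j (_ : j ≠ a) => W j) b fun h => ha (h ▸ hb))
    rw [Finset.sum_insert ha, Finset.sup_insert]
    have h1 := Submodule.finrank_sup_add_finrank_inf_eq (W a) (s.sup W)
    rw [disjoint_iff.mp hdis, finrank_bot, add_zero] at h1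
    omega

end Groth.Agent.H3CAlg.KC
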