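import Groth.Agent.H3CAlg.KC.Cx

/-!
# Quasi-isomorphisms of bigraded complexes, short exact sequences, null homotopies
-/

namespace Groth.Agent.H3CAlg.KC

universe u

variable {R : Type u} [CommRing R] {L : Set R}

/-- morphisms -/
structure Hom (B B' : BC R L) where
  f : B.T →ₗ[R] B'.T
  comm : ∀ z, f (B.d z) = B'.d (f z)
  mem : ∀ n e z, z ∈ B.C n e → f z ∈ B'.C n e

/-- bijective on cohomology in every bidegree -/
def Hom.IsQ {B B' : BC R L} (φ : Hom B B') : Prop :=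
  (∀ n e, ∀ z ∈ B.C n e, B.d z = 0 → ∀ w' ∈ B'.C (n - 1) e, B'.d w' = φ.f z →
    ∃ w ∈ B.C (n - 1) e, B.d w = z) ∧
  ∀ n e, ∀ z' ∈ B'.C n e, B'.d z' = 0 →
    ∃ z ∈ B.C n e, B.d z = 0 ∧ ∃ w' ∈ B'.C (n - 1) e, φ.f z = z' + B'.d w'

theorem Hom.IsQ.ex_iff {B B' : BC R L} {φ : Hom B B'} (h : φ.IsQ) (n e : ℤ) : B.Ex n e ↔ B'.Ex n e := by
  constructor
  · intro hE z' hz' hd'
    obtain ⟨z, hz, hd, w', hw', hzw⟩ := h.2 n e z' hz' hd'
    obtain ⟨w, hw, hwz⟩ := hE z hz hd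
    refine ⟨φ.f w - w', sub_mem (φ.mem _ _ _ hw) hw', ?_⟩
    rw [map_sub, ← φ.comm, hwz, hzw, add_sub_cancel_right]
  · intro hE z hz hd
    obtain ⟨w', hw', hwz⟩ := hE _ (φ.mem _ _ _ hz) (by rw [← φ.comm, hd, map_zero])
    exact h.1 n e z hz hd w' hw' hwz

/-- the map induced on cones -/
abbrev Hom.cone {B B' : BC R L} (φ : Hom B B') (y : L) : Hom (KC.cone B y) (KC.cone B' y) where
  f := φ.f.prodMap φ.f
  comm z := (Prod.ext (φ.comm _) (by simp [φ.comm]))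
  mem n e z hz := (mem_cone B' y).mpr ⟨φ.mem _ _ _ ((mem_cone B y).mp hz).1, φ.mem _ _ _ ((mem_cone B y).mp hz).2⟩

theorem cone_d_zero (B : BC R L) (y : L) {z : B.T × B.T} (hd : (cone B y).d z = 0) :
    B.d z.1 = 0 ∧ B.d z.2 = (y : R) • z.1 := by
  obtain ⟨h1, h2⟩ := Prod.mk_eq_zero.mp ((cone_d B y z).symm.trans hd)
  exact ⟨h1, (sub_eq_zero.mp h2).symm⟩

theorem Hom.IsQ.cone {B B' : BC R L} {φ : Hom B B'} (h : φ.IsQ) (y : L) : (φ.cone y).IsQ := by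
  refine ⟨fun n e z hz hd w hw hwz => ?_, fun n e z' hz' hd' => ?_⟩
  · obtain ⟨ha, hb⟩ := (mem_cone B y).mp hz
    obtain ⟨hda, hdb⟩ := cone_d_zero B y hd
    obtain ⟨hw1, hw2⟩ := (mem_cone B' y).mp hw
    have e1 : B'.d w.1 = φ.f z.1 := congrArg Prod.fst hwz
    have e2 : (y : R) • w.1 - B'.d w.2 = φ.f z.2 := congrArg Prod.snd hwz
    obtain ⟨a, ha', hda'⟩ := h.1 n e z.1 ha hda w.1 hw1 e1
    obtain ⟨c, hc, hdc, u, hu, hcu⟩ := h.2 (n - 1) e (w.1 - φ.f a) (sub_mem hw1 (φ.mem _ _ _ ha'))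
      (by rw [map_sub, e1, ← φ.comm, hda', sub_self])
    have hfac : φ.f (a + c) = w.1 + B'.d u := by rw [map_add, hcu]; abel
    obtain ⟨v, hv, hvz⟩ := h.1 (n - 1) (e + 1) (z.2 - (y : R) • (a + c))
      (sub_mem hb (B.smul_mem y y.2 _ _ _ (add_mem ha' hc)))
      (by rw [map_sub, map_smul, map_add, hda', hdc, add_zero, hdb, sub_self])
      (-w.2 - (y : R) • u) (sub_mem (neg_mem hw2) (B'.smul_mem y y.2 _ _ _ hu)) (by
        rw [map_sub, map_neg, map_smul, map_sub, map_smul, hfac, ← e2, smul_add]; abel)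
    refine ⟨(a + c, -v), (mem_cone B y).mpr ⟨add_mem ha' hc, neg_mem hv⟩, (cone_d B y _).trans (Prod.ext ?_ ?_)⟩
    · rw [map_add, hda', hdc, add_zero]
    · rw [map_neg, hvz]; abel_nf
  · obtain ⟨ha, hb⟩ := (mem_cone B' y).mp hz'
    obtain ⟨hda, hdb⟩ := cone_d_zero B' y hd'
    obtain ⟨a, ha1, hda1, w, hw, haw⟩ := h.2 n e z'.1 ha hda
    obtain ⟨b, hb1, hdb1⟩ := h.1 n (e + 1) ((y : R) • a) (B.smul_mem y y.2 _ _ _ ha1)
      (by rw [map_smul, hda1, smul_zero]) (z'.2 + (y : R) • w)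
      (add_mem hb (B'.smul_mem y y.2 _ _ _ hw)) (by rw [map_add, map_smul, map_smul, hdb, haw, smul_add])
    obtain ⟨c, hc, hdc, v, hv, hcv⟩ := h.2 (n - 1) (e + 1) (z'.2 + (y : R) • w - φ.f b)
      (sub_mem (add_mem hb (B'.smul_mem y y.2 _ _ _ hw)) (φ.mem _ _ _ hb1))
      (by rw [map_sub, map_add, map_smul, hdb, ← φ.comm, hdb1, map_smul, haw, smul_add, sub_self])
    refine ⟨(a, b + c), (mem_cone B y).mpr ⟨ha1, add_mem hb1 hc⟩, ?_, (w, -v),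
      (mem_cone B' y).mpr ⟨hw, neg_mem hv⟩, ?_⟩
    · exact (cone_d B y _).trans (Prod.ext hda1 (by simp [hdb1, hdc]))
    · refine Prod.ext ?_ ?_
      · exact haw
      · show φ.f (b + c) = z'.2 + ((y : R) • w - B'.d (-v))
        rw [map_add, hcv, map_neg]; abel

/-- the map induced on iterated cones -/
def Hom.coneL : ∀ (l : List L) {B B' : BC R L}, Hom B B' → Hom (KC.coneL l B) (KC.coneL l B')
  | [], _, _, φ => φ
  | y :: l, _, _, φ => Hom.coneL l (φ.cone y)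

theorem Hom.IsQ.coneL : ∀ (l : List L) {B B' : BC R L} {φ : Hom B B'}, φ.IsQ → (φ.coneL l).IsQ
  | [], _, _, _, h => h
  | y :: l, _, _, _, h => Hom.IsQ.coneL l (h.cone y)

theorem ex_coneL_iff {B B' : BC R L} {φ : Hom B B'} (h : φ.IsQ) (l : List L) (n e : ℤ) :
    (KC.coneL l B).Ex n e ↔ (KC.coneL l B').Ex n e := (h.coneL l).ex_iff n e

/-- the two orders of forming a double cone agree -/
def swapHom (B : BC R L) (y z : L) : Hom (cone (cone B y) z) (cone (cone B z) y) where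
  f := ((LinearMap.fst R B.T B.T ∘ₗ LinearMap.fst R _ _).prod (LinearMap.fst R B.T B.T ∘ₗ LinearMap.snd R _ _)).prod
    ((LinearMap.snd R B.T B.T ∘ₗ LinearMap.fst R _ _).prod (-(LinearMap.snd R B.T B.T ∘ₗ LinearMap.snd R _ _)))
  comm := by
    rintro ⟨⟨a, b⟩, c, e⟩
    show (((B.d a, (z : R) • a - B.d c)), (y : R) • a - B.d b, -((z : R) • b - ((y : R) • c - B.d e))) =
      ((B.d a, (z : R) • a - B.d c), ((y : R) • a - B.d b, (y : R) • c - ((z : R) • b - B.d (-e))))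
    rw [map_neg]
    refine Prod.ext rfl (Prod.ext rfl ?_)
    show -((z : R) • b - ((y : R) • c - B.d e)) = (y : R) • c - ((z : R) • b - -B.d e)
    abel
  mem n e x hx := by
    obtain ⟨⟨a, b⟩, c, v⟩ := x
    obtain ⟨⟨h1, h2⟩, h3, h4⟩ := (mem_cone (cone B y) z).mp hx
    exact (mem_cone (cone B z) y).mpr ⟨(mem_cone B z).mpr ⟨h1, h3⟩, (mem_cone B z).mpr ⟨h2, neg_mem h4⟩⟩

theorem swapHom_swapHom (B : BC R L) (y z : L) (x) : (swapHom B y z).f ((swapHom B z y).f x) = x := by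
  obtain ⟨⟨a, b⟩, c, v⟩ := x
  show ((a, b), c, - -v) = ((a, b), c, v)
  rw [neg_neg]

theorem isQ_swapHom (B : BC R L) (y z : L) : (swapHom B y z).IsQ := by
  refine ⟨fun n e x _ _ w hw hwx => ⟨(swapHom B z y).f w, (swapHom B z y).mem _ _ _ hw, ?_⟩,
    fun n e x hx hdx => ⟨(swapHom B z y).f x, (swapHom B z y).mem _ _ _ hx, ?_, 0, zero_mem _, ?_⟩⟩
  · rw [← (swapHom B z y).comm, hwx, swapHom_swapHom]
  · rw [← (swapHom B z y).comm, hdx, map_zero]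
  · rw [map_zero, add_zero, swapHom_swapHom]

theorem ex_coneL_cone : ∀ (l : List L) (B : BC R L) (y : L) (n e : ℤ),
    (coneL l (cone B y)).Ex n e ↔ (cone (coneL l B) y).Ex n e
  | [], _, _, _, _ => Iff.rfl
  | z :: l, B, y, n, e =>
    (ex_coneL_iff (isQ_swapHom B y z) l n e).trans (ex_coneL_cone l (cone B z) y n e)

/-- `y` acts null-homotopically -/
def BC.Null (B : BC R L) (y : R) : Prop :=
  ∃ h : B.T →ₗ[R] B.T, (∀ z, B.d (h z) + h (B.d z) = y • z) ∧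
    ∀ n e z, z ∈ B.C n e → h z ∈ B.C (n - 1) (e + 1)

theorem null_cone_self (B : BC R L) (y : L) : (cone B y).Null y := by
  refine ⟨(LinearMap.snd R B.T B.T).prod 0, fun z => ?_, fun n e z hz => ?_⟩
  · show (B.d z.2, (y : R) • z.2 - B.d 0) + ((y : R) • z.1 - B.d z.2, (0 : B.T)) = (y : R) • z
    rw [map_zero, sub_zero, Prod.mk_add_mk, add_zero, add_sub_cancel]
    rfl
  · exact (mem_cone B y).mpr ⟨((mem_cone B y).mp hz).2, zero_mem _⟩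

theorem BC.Null.cone {B : BC R L} {y : R} (h : B.Null y) (z : L) : (KC.cone B z).Null y := by
  obtain ⟨h, h1, h2⟩ := h
  refine ⟨(h ∘ₗ LinearMap.fst R _ _).prod (-(h ∘ₗ LinearMap.snd R _ _)), fun x => ?_, fun n e x hx => ?_⟩
  · show (B.d (h x.1), (z : R) • h x.1 - B.d (-h x.2)) + (h (B.d x.1), -h ((z : R) • x.1 - B.d x.2)) = y • x
    refine Prod.ext (h1 _) ?_
    show (z : R) • h x.1 - B.d (-h x.2) + -h ((z : R) • x.1 - B.d x.2) = y • x.2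
    rw [map_neg, map_sub, map_smul, ← h1]
    abel
  · exact (mem_cone B z).mpr ⟨h2 _ _ _ ((mem_cone B z).mp hx).1, neg_mem (h2 _ _ _ ((mem_cone B z).mp hx).2)⟩

theorem BC.Null.coneL {y : R} : ∀ (l : List L) {B : BC R L}, B.Null y → (KC.coneL l B).Null y
  | [], _, h => h
  | z :: l, _, h => BC.Null.coneL l (h.cone z)

theorem null_coneL_of_mem : ∀ (l : List L) (B : BC R L) {y : L}, y ∈ l → (coneL l B).Null y
  | z :: l, B, y, h => by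
    rcases List.mem_cons.mp h with rfl | h
    · exact (null_cone_self B y).coneL l
    · exact null_coneL_of_mem l (cone B z) h

theorem BC.Null.tor {B : BC R L} {y : R} (h : B.Null y) : B.Tor y := by
  obtain ⟨h, h1, h2⟩ := h
  intro n e z hz hd
  exact ⟨1, h z, by simpa using h2 n e z hz, by rw [pow_one, ← h1, hd, map_zero, add_zero]⟩

theorem BC.Null.zero (B : BC R L) : B.Null 0 :=
  ⟨0, fun z => by simp, fun _ _ _ _ => zero_mem _⟩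

theorem BC.Null.add {B : BC R L} {y y' : R} (h : B.Null y) (h' : B.Null y') : B.Null (y + y') := by
  obtain ⟨h, h1, h2⟩ := h
  obtain ⟨g, g1, g2⟩ := h'
  refine ⟨h + g, fun z => ?_, fun n e z hz => add_mem (h2 n e z hz) (g2 n e z hz)⟩
  rw [LinearMap.add_apply, LinearMap.add_apply, map_add, add_smul, ← h1, ← g1]
  abel

theorem BC.Null.mul {B : BC R L} {y c : R} (h : B.Null y) (hc : ∀ n e z, z ∈ B.C n e → c • z ∈ B.C n e) :
    B.Null (c * y) := by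
  obtain ⟨h, h1, h2⟩ := h
  refine ⟨c • h, fun z => ?_, fun n e z hz => hc _ _ _ (h2 n e z hz)⟩
  rw [LinearMap.smul_apply, LinearMap.smul_apply, map_smul, ← smul_add, h1, mul_smul]

/-- a subcomplex whose quotient has bijective multiplication by `y` -/
def Hom.SubDiv {B B' : BC R L} (φ : Hom B B') (y : R) : Prop :=
  Function.Injective φ.f ∧
  (∀ n e, ∀ z' ∈ B'.C n e, ∀ u ∈ B.C n (e + 1), y • z' = φ.f u → ∃ w ∈ B.C n e, φ.f w = z') ∧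
  ∀ n e, ∀ z' ∈ B'.C n (e + 1), ∃ q ∈ B'.C n e, ∃ u ∈ B.C n (e + 1), z' = y • q + φ.f u

theorem Hom.SubDiv.cone {B B' : BC R L} {φ : Hom B B'} {y : R} (h : φ.SubDiv y) (z : L) :
    (φ.cone z).SubDiv y := by
  refine ⟨Function.Injective.prodMap h.1 h.1, fun n e z' hz' u hu hyu => ?_, fun n e z' hz' => ?_⟩
  · obtain ⟨h1, h2⟩ := (mem_cone B' z).mp hz'
    obtain ⟨u1, u2⟩ := (mem_cone B z).mp hu
    obtain ⟨a, ha, ha'⟩ := h.2.1 n e z'.1 h1 u.1 u1 (congrArg Prod.fst hyu)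
    obtain ⟨b, hb, hb'⟩ := h.2.1 (n - 1) (e + 1) z'.2 h2 u.2 u2 (congrArg Prod.snd hyu)
    exact ⟨(a, b), (mem_cone B z).mpr ⟨ha, hb⟩, Prod.ext ha' hb'⟩
  · obtain ⟨h1, h2⟩ := (mem_cone B' z).mp hz'
    obtain ⟨q, hq, u, hu, hqu⟩ := h.2.2 n e z'.1 h1
    obtain ⟨q', hq', u', hu', hqu'⟩ := h.2.2 (n - 1) (e + 1) z'.2 h2
    exact ⟨(q, q'), (mem_cone B' z).mpr ⟨hq, hq'⟩, (u, u'), (mem_cone B z).mpr ⟨hu, hu'⟩, Prod.ext hqu hqu'⟩

theorem Hom.SubDiv.coneL {y : R} : ∀ (l : List L) {B B' : BC R L} {φ : Hom B B'}, φ.SubDiv y →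
    (φ.coneL l).SubDiv y
  | [], _, _, _, h => h
  | z :: l, _, _, _, h => Hom.SubDiv.coneL l (h.cone z)

theorem Hom.SubDiv.isQ {B B' : BC R L} {φ : Hom B B'} {y : L} (h : φ.SubDiv (y : R)) : (φ.cone y).IsQ := by
  refine ⟨fun n e z hz hd w hw hwz => ?_, fun n e z' hz' hd' => ?_⟩
  · obtain ⟨ha, hb⟩ := (mem_cone B y).mp hz
    obtain ⟨hw1, hw2⟩ := (mem_cone B' y).mp hw
    have e1 : B'.d w.1 = φ.f z.1 := congrArg Prod.fst hwz
    have e2 : (y : R) • w.1 - B'.d w.2 = φ.f z.2 := congrArg Prod.snd hwz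
    obtain ⟨q, hq, u, hu, hqu⟩ := h.2.2 _ _ w.2 hw2
    obtain ⟨a, ha', haw⟩ := h.2.1 (n - 1) e (w.1 - B'.d q) (sub_mem hw1 (B'.d_mem' hq)) (z.2 + B.d u)
      (add_mem hb (B.d_mem' hu)) (by
        rw [smul_sub, map_add, φ.comm, ← e2, hqu, map_add, map_smul]; abel)
    refine ⟨(a, u), (mem_cone B y).mpr ⟨ha', hu⟩, (cone_d B y _).trans (Prod.ext (h.1 ?_) (h.1 ?_))⟩
    · rw [φ.comm, haw, map_sub, B'.d_d, sub_zero, e1]
    · rw [map_sub, map_smul, φ.comm, haw, ← e2, hqu, map_add, map_smul, smul_sub]; abel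
  · obtain ⟨ha, hb⟩ := (mem_cone B' y).mp hz'
    obtain ⟨hda, hdb⟩ := cone_d_zero B' y hd'
    obtain ⟨q, hq, u, hu, hqu⟩ := h.2.2 _ _ z'.2 hb
    obtain ⟨a, ha', haw⟩ := h.2.1 n e (z'.1 - B'.d q) (sub_mem ha (B'.d_mem' hq)) (B.d u) (B.d_mem' hu) (by
        rw [smul_sub, ← hdb, hqu, φ.comm, map_add, map_smul]; abel)
    refine ⟨(a, u), (mem_cone B y).mpr ⟨ha', hu⟩, (cone_d B y _).trans (Prod.ext (h.1 ?_) (h.1 ?_)), (-q, 0),
      (mem_cone B' y).mpr ⟨neg_mem hq, zero_mem _⟩, Prod.ext ?_ ?_⟩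
    · rw [φ.comm, haw, map_sub, B'.d_d, sub_zero, hda]; exact (map_zero φ.f).symm
    · rw [map_sub, map_smul, φ.comm, haw, smul_sub, ← hdb, hqu, map_add, map_smul]
      rw [show (y : R) • B'.d q + B'.d (φ.f u) - (y : R) • B'.d q - B'.d (φ.f u) = 0 by abel]
      exact (map_zero φ.f).symm
    · show φ.f a = z'.1 + B'.d (-q)
      rw [haw, map_neg]; abel
    · show φ.f u = z'.2 + ((y : R) • -q - B'.d 0)
      rw [map_zero, sub_zero, hqu, smul_neg]; abel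

/-- a short exact sequence in every bidegree -/
def IsShort {B₁ B₂ B₃ : BC R L} (α : Hom B₁ B₂) (β : Hom B₂ B₃) : Prop :=
  Function.Injective α.f ∧
  (∀ n e, ∀ z ∈ B₂.C n e, β.f z = 0 → ∃ w ∈ B₁.C n e, α.f w = z) ∧
  (∀ n e, ∀ z ∈ B₃.C n e, ∃ w ∈ B₂.C n e, β.f w = z) ∧
  ∀ z, β.f (α.f z) = 0

theorem IsShort.cone {B₁ B₂ B₃ : BC R L} {α : Hom B₁ B₂} {β : Hom B₂ B₃} (h : IsShort α β) (y : L) :
    IsShort (α.cone y) (β.cone y) := by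
  refine ⟨Function.Injective.prodMap h.1 h.1, fun n e z hz hβ => ?_, fun n e z hz => ?_,
    fun z => Prod.ext (h.2.2.2 _) (h.2.2.2 _)⟩
  · obtain ⟨h1, h2⟩ := (mem_cone B₂ y).mp hz
    obtain ⟨a, ha, ha'⟩ := h.2.1 _ _ _ h1 (congrArg Prod.fst hβ)
    obtain ⟨b, hb, hb'⟩ := h.2.1 _ _ _ h2 (congrArg Prod.snd hβ)
    exact ⟨(a, b), (mem_cone B₁ y).mpr ⟨ha, hb⟩, Prod.ext ha' hb'⟩
  · obtain ⟨h1, h2⟩ := (mem_cone B₃ y).mp hz
    obtain ⟨a, ha, ha'⟩ := h.2.2.1 _ _ _ h1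
    obtain ⟨b, hb, hb'⟩ := h.2.2.1 _ _ _ h2
    exact ⟨(a, b), (mem_cone B₂ y).mpr ⟨ha, hb⟩, Prod.ext ha' hb'⟩

theorem IsShort.coneL : ∀ (l : List L) {B₁ B₂ B₃ : BC R L} {α : Hom B₁ B₂} {β : Hom B₂ B₃}, IsShort α β →
    IsShort (α.coneL l) (β.coneL l)
  | [], _, _, _, _, _, h => h
  | z :: l, _, _, _, _, _, h => IsShort.coneL l (h.cone z)

variable {B₁ B₂ B₃ : BC R L} {α : Hom B₁ B₂} {β : Hom B₂ B₃} (h : IsShort α β) {n e : ℤ}
include h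

theorem IsShort.ex₂ (h1 : B₁.Ex n e) (h3 : B₃.Ex n e) : B₂.Ex n e := by
  intro z hz hd
  obtain ⟨w, hw, hwz⟩ := h3 _ (β.mem _ _ _ hz) (by rw [← β.comm, hd, map_zero])
  obtain ⟨v, hv, rfl⟩ := h.2.2.1 _ _ w hw
  obtain ⟨a, ha, haz⟩ := h.2.1 n e (z - B₂.d v) (sub_mem hz (B₂.d_mem' hv))
    (by rw [map_sub, β.comm, hwz, sub_self])
  obtain ⟨b, hb, hbz⟩ := h1 a ha (h.1 (by rw [α.comm, haz, map_sub, B₂.d_d, hd, sub_zero, map_zero]))
  refine ⟨α.f b + v, add_mem (α.mem _ _ _ hb) hv, ?_⟩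
  rw [map_add, ← α.comm, hbz, haz, sub_add_cancel]

theorem IsShort.ex₁ (h2 : B₂.Ex n e) (h3 : B₃.Ex (n - 1) e) : B₁.Ex n e := by
  intro z hz hd
  obtain ⟨v, hv, hvz⟩ := h2 _ (α.mem _ _ _ hz) (by rw [← α.comm, hd, map_zero])
  obtain ⟨w, hw, hwz⟩ := h3 _ (β.mem _ _ _ hv) (by rw [← β.comm, hvz, h.2.2.2])
  obtain ⟨u, hu, rfl⟩ := h.2.2.1 _ _ w hw
  obtain ⟨a, ha, haz⟩ := h.2.1 _ e (v - B₂.d u) (sub_mem hv (B₂.d_mem' hu))
    (by rw [map_sub, β.comm, hwz, sub_self])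
  refine ⟨a, ha, h.1 ?_⟩
  rw [α.comm, haz, map_sub, B₂.d_d, sub_zero, hvz]

theorem IsShort.ex₃ (h2 : B₂.Ex n e) (h1 : B₁.Ex (n + 1) e) : B₃.Ex n e := by
  intro z hz hd
  obtain ⟨v, hv, rfl⟩ := h.2.2.1 _ _ z hz
  obtain ⟨a, ha, haz⟩ := h.2.1 _ e (B₂.d v) (B₂.d_mem _ _ _ hv) (by rw [β.comm, hd])
  obtain ⟨b, hb, hbz⟩ := h1 a ha (h.1 (by rw [α.comm, haz, B₂.d_d, map_zero]))
  obtain ⟨w, hw, hwz⟩ := h2 (v - α.f b) (sub_mem hv (α.mem _ _ _ (by simpa using hb)))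
    (by rw [map_sub, ← α.comm, hbz, haz, sub_self])
  refine ⟨β.f w, β.mem _ _ _ hw, ?_⟩
  rw [← β.comm, hwz, map_sub, h.2.2.2, sub_zero]

end Groth.Agent.H3CAlg.KC
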