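import Groth.Agent.H3CAlg.KC.Crit
import Mathlib.RingTheory.Regular.RegularSequence

/-!
# Regularity and quotients by linear forms
-/

namespace Groth.Agent.H3CAlg.KC

universe u

open MvPolynomial GrSyz Groth.Agent.H3CAlg.Syz RingTheory.Sequence

variable {k : Type u} [Field k] {r : ℕ}

section Bij

variable {B B' : BC (MvPolynomial (Fin (r + 1)) k) (Lv k r)}

theorem isQ_of_bij {φ : Hom B B'} (hinj : Function.Injective φ.f)
    (hsurj : ∀ n e, ∀ z' ∈ B'.C n e, ∃ z ∈ B.C n e, φ.f z = z') : φ.IsQ := by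
  refine ⟨fun n e z _ _ w hw hwz => ?_, fun n e z' hz' hd => ?_⟩
  · obtain ⟨v, hv, rfl⟩ := hsurj _ _ w hw
    exact ⟨v, hv, hinj ((φ.comm v).trans hwz)⟩
  · obtain ⟨v, hv, rfl⟩ := hsurj _ _ z' hz'
    exact ⟨v, hv, hinj (by rw [φ.comm, hd, map_zero]), 0, zero_mem _, by rw [map_zero, add_zero]⟩

end Bij

variable {M : Type u} [AddCommGroup M] [Module k M] [Module (MvPolynomial (Fin (r + 1)) k) M]
  [IsScalarTower k (MvPolynomial (Fin (r + 1)) k) M]
  (ℳ : ℤ → Submodule k M) [DirectSum.Decomposition ℳ] [SetLike.GradedSMul (stdGr k (Fin (r + 1))) ℳ]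

omit [IsScalarTower k (MvPolynomial (Fin (r + 1)) k) M] [DirectSum.Decomposition ℳ] in
theorem quot_smul_mem (A : Submodule (MvPolynomial (Fin (r + 1)) k) M) :
    ∀ y ∈ Lv k r, ∀ e z, z ∈ (ℳ e).toAddSubgroup.map A.mkQ.toAddMonoidHom →
      y • z ∈ (ℳ (e + 1)).toAddSubgroup.map A.mkQ.toAddMonoidHom := by
  rintro y hy e _ ⟨m, hm, rfl⟩
  exact ⟨y • m, smul_mem_piece ℳ hy hm, map_smul A.mkQ y m⟩

/-- a quotient of a graded module, in degree zero -/
noncomputable abbrev quotBC (A : Submodule (MvPolynomial (Fin (r + 1)) k) M) :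
    BC (MvPolynomial (Fin (r + 1)) k) (Lv k r) :=
  ofMod (Lv k r) (fun e => (ℳ e).toAddSubgroup.map A.mkQ.toAddMonoidHom) (quot_smul_mem ℳ A)

omit [DirectSum.Decomposition ℳ] in
theorem constStable_quotBC (A : Submodule (MvPolynomial (Fin (r + 1)) k) M) : ConstStable (quotBC ℳ A) := by
  intro c n e z hz
  refine mem_ofMod.mpr ⟨fun hn => ?_, fun hn => by rw [(mem_ofMod.mp hz).2 hn, smul_zero]⟩
  obtain ⟨m, hm, rfl⟩ := (mem_ofMod.mp hz).1 hn
  refine ⟨(C c : MvPolynomial (Fin (r + 1)) k) • m, ?_, map_smul A.mkQ _ m⟩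
  show (C c : MvPolynomial (Fin (r + 1)) k) • m ∈ ℳ e
  rw [show (C c : MvPolynomial (Fin (r + 1)) k) • m = c • m from
    algebraMap_smul (MvPolynomial (Fin (r + 1)) k) c m]
  exact (ℳ e).smul_mem c hm

/-- the submodule is homogeneous -/
def HomogSub (A : Submodule (MvPolynomial (Fin (r + 1)) k) M) : Prop := ∀ e, ∀ z ∈ A, P ℳ e z ∈ A

omit [IsScalarTower k (MvPolynomial (Fin (r + 1)) k) M] [SetLike.GradedSMul (stdGr k (Fin (r + 1))) ℳ] in
theorem homogSub_bot : HomogSub ℳ (⊥ : Submodule (MvPolynomial (Fin (r + 1)) k) M) := fun e z hz => by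
  rw [(Submodule.mem_bot _).mp hz, map_zero]
  exact zero_mem _

omit [IsScalarTower k (MvPolynomial (Fin (r + 1)) k) M] in
theorem P_smul_linear {y : MvPolynomial (Fin (r + 1)) k} (hy : y ∈ stdGr k (Fin (r + 1)) 1) (e : ℤ) (c : M) :
    P ℳ e (y • c) = y • P ℳ (e - 1) c := by
  rw [smul_P ℳ hy, sub_add_cancel]

omit [IsScalarTower k (MvPolynomial (Fin (r + 1)) k) M] in
theorem HomogSub.sup_range {A : Submodule (MvPolynomial (Fin (r + 1)) k) M} (hA : HomogSub ℳ A)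
    {y : MvPolynomial (Fin (r + 1)) k} (hy : y ∈ stdGr k (Fin (r + 1)) 1) :
    HomogSub ℳ (A ⊔ LinearMap.range (y • (LinearMap.id : M →ₗ[MvPolynomial (Fin (r + 1)) k] M))) := by
  intro e z hz
  obtain ⟨a, ha, b, ⟨c, rfl⟩, rfl⟩ := Submodule.mem_sup.mp hz
  rw [map_add]
  refine Submodule.add_mem_sup (hA e a ha) ⟨P ℳ (e - 1) c, ?_⟩
  simp only [LinearMap.smul_apply, LinearMap.id_apply]
  exact (P_smul_linear ℳ hy e c).symm

/-- the map from a cone to the next quotient -/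
noncomputable def quotStepHom (A : Submodule (MvPolynomial (Fin (r + 1)) k) M) (y : Lv k r) :
    Hom (cone (quotBC ℳ A) y) (shiftBC (quotBC ℳ
      (A ⊔ LinearMap.range ((y : MvPolynomial (Fin (r + 1)) k) • (LinearMap.id : M →ₗ[MvPolynomial (Fin (r + 1)) k] M)))) (-1) 1) where
  f := Submodule.factor le_sup_left ∘ₗ LinearMap.snd _ _ _
  comm z := by
    obtain ⟨a, b⟩ := z
    obtain ⟨m, rfl⟩ := Submodule.Quotient.mk_surjective A a
    show Submodule.factor le_sup_left ((y : MvPolynomial (Fin (r + 1)) k) • Submodule.Quotient.mk m - (0 : M ⧸ A)) = 0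
    rw [sub_zero]
    exact (Submodule.Quotient.mk_eq_zero _).mpr (Submodule.mem_sup_right ⟨m, rfl⟩)
  mem n e z hz := by
    obtain ⟨-, h2⟩ := (mem_cone _ _).mp hz
    show Submodule.factor (le_sup_left : A ≤ A ⊔ LinearMap.range ((y : MvPolynomial (Fin (r + 1)) k) •
      (LinearMap.id : M →ₗ[MvPolynomial (Fin (r + 1)) k] M))) z.2 ∈ (quotBC ℳ (A ⊔ LinearMap.range
        ((y : MvPolynomial (Fin (r + 1)) k) • (LinearMap.id : M →ₗ[MvPolynomial (Fin (r + 1)) k] M)))).C (n + -1) (e + 1)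
    refine mem_ofMod.mpr ⟨fun hn => ?_, fun hn => ?_⟩
    · obtain ⟨m, hm, hmz⟩ := (mem_ofMod.mp h2).1 (by omega)
      exact ⟨m, hm, by show _ = Submodule.factor le_sup_left z.2; rw [← hmz]; rfl⟩
    · show Submodule.factor le_sup_left z.2 = 0
      rw [(mem_ofMod.mp h2).2 (by omega), map_zero]

omit [IsScalarTower k (MvPolynomial (Fin (r + 1)) k) M] in
theorem isQ_quotStepHom (A : Submodule (MvPolynomial (Fin (r + 1)) k) M) (hA : HomogSub ℳ A) (y : Lv k r)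
    (hreg : IsSMulRegular (M ⧸ A) (y : MvPolynomial (Fin (r + 1)) k)) : (quotStepHom ℳ A y).IsQ := by
  refine ⟨fun n e z hz hd w hw hwz => ?_, fun n e z' hz' hd => ?_⟩
  · obtain ⟨a, b⟩ := z
    obtain ⟨ha, hb⟩ := (mem_cone _ _).mp hz
    obtain ⟨-, hdb⟩ := cone_d_zero _ _ hd
    have hya : (y : MvPolynomial (Fin (r + 1)) k) • a = 0 := hdb.symm
    have ha0 : a = 0 := hreg (by
      show (y : MvPolynomial (Fin (r + 1)) k) • a = (y : MvPolynomial (Fin (r + 1)) k) • (0 : M ⧸ A)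
      rw [hya, smul_zero])
    subst ha0
    rcases eq_or_ne (n - 1) 0 with hn | hn
    · obtain ⟨m, hm, rfl⟩ := (mem_ofMod.mp hb).1 hn
      have hm' : Submodule.factor (le_sup_left (a := A)) (Submodule.Quotient.mk (p := A) m) = 0 := hwz.symm
      rw [← Submodule.mkQ_apply, Submodule.factor_mk, Submodule.mkQ_apply, Submodule.Quotient.mk_eq_zero] at hm'
      obtain ⟨a, haA, _, ⟨c, rfl⟩, hmc⟩ := Submodule.mem_sup.mp hm'
      refine ⟨((Submodule.Quotient.mk (P ℳ e c) : M ⧸ A), (0 : M ⧸ A)), (mem_cone _ _).mpr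
        ⟨mem_ofMod.mpr ⟨fun _ => ⟨P ℳ e c, P_mem ℳ e c, rfl⟩, fun h => absurd hn h⟩, zero_mem _⟩, ?_⟩
      refine (cone_d _ _ _).trans (Prod.ext rfl ?_)
      show (y : MvPolynomial (Fin (r + 1)) k) • Submodule.Quotient.mk (P ℳ e c) - (0 : M ⧸ A) =
        Submodule.Quotient.mk m
      rw [sub_zero, ← Submodule.Quotient.mk_smul, Submodule.Quotient.eq, smul_P ℳ y.2]
      have hmem : P ℳ (e + 1) m = m := (P_eq_self_iff ℳ).mpr hm
      have h1 := congrArg (P ℳ (e + 1)) hmc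
      rw [map_add, hmem] at h1
      simp only [LinearMap.smul_apply, LinearMap.id_apply] at h1
      rw [← h1, sub_add_cancel_right, neg_mem_iff]
      exact hA _ a haA
    · exact ⟨0, zero_mem _, (map_zero _).trans (Prod.ext rfl ((mem_ofMod.mp hb).2 hn).symm)⟩
  · have hz'' : z' ∈ (quotBC ℳ (A ⊔ LinearMap.range ((y : MvPolynomial (Fin (r + 1)) k) •
      (LinearMap.id : M →ₗ[MvPolynomial (Fin (r + 1)) k] M)))).C (n + -1) (e + 1) := hz'
    rcases eq_or_ne (n - 1) 0 with hn | hn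
    · obtain ⟨m, hm, rfl⟩ := (mem_ofMod.mp hz'').1 (by omega)
      refine ⟨((0 : M ⧸ A), (Submodule.Quotient.mk m : M ⧸ A)), (mem_cone _ _).mpr
        ⟨zero_mem _, mem_ofMod.mpr ⟨fun _ => ⟨m, hm, rfl⟩, fun h => absurd hn h⟩⟩, ?_, 0, zero_mem _, ?_⟩
      · exact (cone_d _ _ _).trans (Prod.ext rfl (by rw [smul_zero]; exact sub_zero _))
      · rw [map_zero, add_zero]; rfl
    · refine ⟨0, zero_mem _, map_zero _, 0, zero_mem _, ?_⟩
      rw [map_zero, map_zero, add_zero]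
      exact ((mem_ofMod.mp hz'').2 (by omega)).symm

theorem ele_quot_step (A : Submodule (MvPolynomial (Fin (r + 1)) k) M) (hA : HomogSub ℳ A) (y : Lv k r)
    (hreg : IsSMulRegular (M ⧸ A) (y : MvPolynomial (Fin (r + 1)) k)) (d : ℤ) :
    ELE (quotBC ℳ A) d ↔ ELE (quotBC ℳ
      (A ⊔ LinearMap.range ((y : MvPolynomial (Fin (r + 1)) k) • (LinearMap.id : M →ₗ[MvPolynomial (Fin (r + 1)) k] M)))) d := by
  rw [← ele_cone_iff (constStable_quotBC ℳ A) y, ele_iff_of_isQ (isQ_quotStepHom ℳ A hA y hreg), ele_shiftBC,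
    show d + (-1) + 1 = d by ring]

omit [IsScalarTower k (MvPolynomial (Fin (r + 1)) k) M] in
theorem ele_quot_bot (d : ℤ) :
    ELE (modBC (r := r) ℳ) d ↔ ELE (quotBC ℳ (⊥ : Submodule (MvPolynomial (Fin (r + 1)) k) M)) d := by
  refine ele_iff_of_isQ (φ := modHom (Submodule.mkQ ⊥) fun e z hz => AddSubgroup.mem_map_of_mem _ hz) (isQ_of_bij ?_ ?_) d
  · exact fun a b h => by
      have := (Submodule.Quotient.eq (⊥ : Submodule (MvPolynomial (Fin (r + 1)) k) M)).mp h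
      rwa [Submodule.mem_bot, sub_eq_zero] at this
  · intro n e z hz
    rcases eq_or_ne n 0 with hn | hn
    · obtain ⟨m, hm, rfl⟩ := (mem_ofMod.mp hz).1 hn
      exact ⟨m, mem_ofMod.mpr ⟨fun _ => hm, fun h => absurd hn h⟩, rfl⟩
    · exact ⟨0, zero_mem _, by rw [map_zero, (mem_ofMod.mp hz).2 hn]⟩

theorem ele_regular_seq (ys : List (MvPolynomial (Fin (r + 1)) k)) (hys : ∀ y ∈ ys, y ∈ stdGr k (Fin (r + 1)) 1)
    (hreg : IsWeaklyRegular M ys) (d : ℤ) :
    ELE (modBC (r := r) ℳ) d ↔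
      ELE (quotBC ℳ (Ideal.ofList ys • ⊤ : Submodule (MvPolynomial (Fin (r + 1)) k) M)) d := by
  suffices h : ∀ i, i ≤ ys.length → HomogSub ℳ (Ideal.ofList (ys.take i) • ⊤ : Submodule (MvPolynomial (Fin (r + 1)) k) M) ∧
      (ELE (modBC (r := r) ℳ) d ↔
        ELE (quotBC ℳ (Ideal.ofList (ys.take i) • ⊤ : Submodule (MvPolynomial (Fin (r + 1)) k) M)) d) by
    have := (h ys.length le_rfl).2
    rwa [List.take_length] at this
  intro i hi
  induction i with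
  | zero =>
    rw [List.take_zero, Ideal.ofList_nil, Submodule.bot_smul]
    exact ⟨homogSub_bot ℳ, ele_quot_bot ℳ d⟩
  | succ i ih =>
    obtain ⟨hA, hiff⟩ := ih (Nat.le_of_succ_le hi)
    have hlt : i < ys.length := hi
    have hy : ys[i] ∈ stdGr k (Fin (r + 1)) 1 := hys _ (List.getElem_mem hlt)
    have heq : (Ideal.ofList (ys.take (i + 1)) • ⊤ : Submodule (MvPolynomial (Fin (r + 1)) k) M) =
        Ideal.ofList (ys.take i) • ⊤ ⊔ LinearMap.range (ys[i] • (LinearMap.id : M →ₗ[MvPolynomial (Fin (r + 1)) k] M)) := by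
      rw [List.take_succ_eq_append_getElem hlt, Ideal.ofList_append, Ideal.ofList_singleton, Submodule.sup_smul,
        Submodule.ideal_span_singleton_smul]
      congr 1
      ext z
      simp [Submodule.mem_smul_pointwise_iff_exists]
    rw [heq]
    exact ⟨hA.sup_range ℳ hy, hiff.trans (ele_quot_step ℳ _ hA ⟨_, hy⟩ (hreg.regular_mod_prev i hlt) d)⟩

theorem ele_regular_quot (ys : List (MvPolynomial (Fin (r + 1)) k)) (hys : ∀ y ∈ ys, y ∈ stdGr k (Fin (r + 1)) 1)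
    (hreg : IsWeaklyRegular M ys) {N : Type u} [AddCommGroup N] [Module k N]
    [Module (MvPolynomial (Fin (r + 1)) k) N] (𝒩 : ℤ → Submodule k N) [DirectSum.Decomposition 𝒩]
    [SetLike.GradedSMul (stdGr k (Fin (r + 1))) 𝒩]
    (π : M →ₗ[MvPolynomial (Fin (r + 1)) k] N) (hπ : Function.Surjective π) (hπg : GrLC.IsGrHom ℳ 𝒩 π)
    (hker : LinearMap.ker π = Ideal.ofList ys • (⊤ : Submodule (MvPolynomial (Fin (r + 1)) k) M)) (d : ℤ) :
    KLE (r := r) ℳ d ↔ KLE (r := r) 𝒩 d := by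
  rw [kle_iff_ele, kle_iff_ele, ele_regular_seq ℳ ys hys hreg]
  refine ele_iff_of_isQ (φ := modHom ((Ideal.ofList ys • (⊤ : Submodule (MvPolynomial (Fin (r + 1)) k) M)).liftQ π hker.ge)
    fun e z hz => by obtain ⟨m, hm, rfl⟩ := hz; exact hπg e m hm) (isQ_of_bij ?_ ?_) d
  · exact LinearMap.ker_eq_bot.mp (Submodule.ker_liftQ_eq_bot _ _ _ hker.le)
  · intro n e z hz
    rcases eq_or_ne n 0 with hn | hn
    · obtain ⟨m, hm⟩ := hπ z
      obtain ⟨m', hm', hmz⟩ := exists_homog_preimage ℳ 𝒩 π hπg ((mem_ofMod.mp hz).1 hn) hm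
      exact ⟨Submodule.Quotient.mk m', mem_ofMod.mpr ⟨fun _ => ⟨m', hm', rfl⟩, fun h => absurd hn h⟩, hmz⟩
    · exact ⟨0, zero_mem _, by rw [map_zero, (mem_ofMod.mp hz).2 hn]⟩

omit [IsScalarTower k (MvPolynomial (Fin (r + 1)) k) M] in
theorem kle_iff_of_isFiniteLength (hM : IsFiniteLength (MvPolynomial (Fin (r + 1)) k) M) (d : ℤ) :
    KLE (r := r) ℳ d ↔ ∀ e, d < e → ∀ z ∈ ℳ e, z = 0 := by
  rw [kle_iff_ele, ele_ofMod_iff fun v n e z hz _ => ?_]
  · exact Iff.rfl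
  · rcases eq_or_ne n 0 with hn | hn
    · obtain ⟨N, hN⟩ := exists_pow_smul_of_isFiniteLength (ℳ := ℳ) (⊤ : Submodule (MvPolynomial (Fin (r + 1)) k) M)
        ((Submodule.topEquiv).symm.isFiniteLength hM) v ((mem_ofMod.mp hz).1 hn) Submodule.mem_top
      exact ⟨N, 0, zero_mem _, by rw [map_zero]; exact hN.symm⟩
    · exact ⟨0, 0, zero_mem _, by rw [map_zero, (mem_ofMod.mp hz).2 hn, smul_zero]⟩

end Groth.Agent.H3CAlg.KC
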