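import Groth.Agent.H3CAlg.KC.QIso

/-!
# Bigraded complexes from sequences of modules, and augmentations
-/

namespace Groth.Agent.H3CAlg.KC

universe u

variable {R : Type u} [CommRing R] {L : Set R}
variable {X : ℕ → Type u} [∀ i, AddCommGroup (X i)] [∀ i, Module R (X i)]
variable {M : Type u} [AddCommGroup M] [Module R M]

/-- the differential of the total module of a cochain sequence -/
def upD (d : ∀ i, X i →ₗ[R] X (i + 1)) : (∀ i, X i) →ₗ[R] ∀ i, X i :=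
  LinearMap.pi fun i => match i with
    | 0 => 0
    | i + 1 => d i ∘ₗ LinearMap.proj i

theorem upD_zero (d : ∀ i, X i →ₗ[R] X (i + 1)) (f : ∀ i, X i) : upD d f 0 = 0 := rfl
theorem upD_succ (d : ∀ i, X i →ₗ[R] X (i + 1)) (f : ∀ i, X i) (i : ℕ) : upD d f (i + 1) = d i (f i) := rfl

/-- the differential of the total module of a chain sequence -/
def downD (d : ∀ i, X (i + 1) →ₗ[R] X i) : (∀ i, X i) →ₗ[R] ∀ i, X i :=
  LinearMap.pi fun i => d i ∘ₗ LinearMap.proj (i + 1)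

theorem downD_apply (d : ∀ i, X (i + 1) →ₗ[R] X i) (f : ∀ i, X i) (i : ℕ) : downD d f i = d i (f (i + 1)) := rfl

/-- bidegree pieces -/
def piecesOf (S : ∀ i, ℤ → AddSubgroup (X i)) (g : ℕ → ℤ) (n e : ℤ) : AddSubgroup (∀ i, X i) where
  carrier := {f | ∀ i, f i ∈ S i e ∧ (g i ≠ n → f i = 0)}
  zero_mem' i := ⟨zero_mem _, fun _ => rfl⟩
  add_mem' ha hb i := ⟨add_mem (ha i).1 (hb i).1, fun h => by simp [(ha i).2 h, (hb i).2 h]⟩
  neg_mem' ha i := ⟨neg_mem (ha i).1, fun h => by simp [(ha i).2 h]⟩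

theorem mem_piecesOf {S : ∀ i, ℤ → AddSubgroup (X i)} {g : ℕ → ℤ} {n e : ℤ} {f : ∀ i, X i} :
    f ∈ piecesOf S g n e ↔ ∀ i, f i ∈ S i e ∧ (g i ≠ n → f i = 0) := Iff.rfl

theorem single_mem_piecesOf {S : ∀ i, ℤ → AddSubgroup (X i)} {g : ℕ → ℤ} {n e : ℤ} {i : ℕ} {z : X i}
    (hz : z ∈ S i e) (hi : g i = n) : Pi.single i z ∈ piecesOf S g n e := by
  intro j
  rcases eq_or_ne j i with rfl | h
  · rw [Pi.single_eq_same]; exact ⟨hz, fun h => absurd hi h⟩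
  · rw [Pi.single_eq_of_ne h]; exact ⟨zero_mem _, fun _ => rfl⟩

theorem eq_single {S : ∀ i, ℤ → AddSubgroup (X i)} {g : ℕ → ℤ} (hg : Function.Injective g) {e : ℤ} {i : ℕ}
    {f : ∀ i, X i} (hf : f ∈ piecesOf S g (g i) e) : f = Pi.single i (f i) := by
  funext j
  rcases eq_or_ne j i with rfl | h
  · rw [Pi.single_eq_same]
  · rw [Pi.single_eq_of_ne h, (hf j).2 fun h' => h (hg h')]

theorem eq_zero_of_piecesOf {S : ∀ i, ℤ → AddSubgroup (X i)} {g : ℕ → ℤ} {n e : ℤ}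
    {f : ∀ i, X i} (hf : f ∈ piecesOf S g n e) (hn : ∀ i, g i ≠ n) : f = 0 :=
  funext fun i => (hf i).2 (hn i)

theorem upD_single (d : ∀ i, X i →ₗ[R] X (i + 1)) (i : ℕ) (z : X i) :
    upD d (Pi.single i z) = Pi.single (i + 1) (d i z) := by
  funext j
  rcases j with _ | j
  · rw [upD_zero, Pi.single_eq_of_ne (Nat.succ_ne_zero i).symm]
  · rw [upD_succ]
    rcases eq_or_ne j i with rfl | h
    · simp
    · rw [Pi.single_eq_of_ne h, Pi.single_eq_of_ne (by simpa using h), map_zero]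

theorem downD_single (d : ∀ i, X (i + 1) →ₗ[R] X i) (i : ℕ) (z : X (i + 1)) :
    downD d (Pi.single (i + 1) z) = Pi.single i (d i z) := by
  funext j
  rw [downD_apply]
  rcases eq_or_ne j i with rfl | h
  · simp
  · rw [Pi.single_eq_of_ne h, Pi.single_eq_of_ne (by simpa using h), map_zero]

theorem downD_single_zero (d : ∀ i, X (i + 1) →ₗ[R] X i) (z : X 0) : downD d (Pi.single 0 z) = 0 := by
  funext j
  rw [downD_apply, Pi.single_eq_of_ne (Nat.succ_ne_zero j), map_zero, Pi.zero_apply]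

/-- hypotheses making a cochain sequence a complex -/
structure SeqData (L : Set R) (X : ℕ → Type u) [∀ i, AddCommGroup (X i)] [∀ i, Module R (X i)] : Type u where
  d : ∀ i, X i →ₗ[R] X (i + 1)
  S : ∀ i, ℤ → AddSubgroup (X i)
  d_d : ∀ i z, d (i + 1) (d i z) = 0
  d_mem : ∀ i e z, z ∈ S i e → d i z ∈ S (i + 1) e
  smul_mem : ∀ y ∈ L, ∀ i e z, z ∈ S i e → y • z ∈ S i (e + 1)

/-- the complex of a cochain sequence -/
abbrev ofSeq (D : SeqData L X) : BC R L where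
  T := ∀ i, X i
  d := upD D.d
  C := piecesOf D.S fun i => (i : ℤ)
  d_d f := funext fun i => by
    rcases i with _ | _ | i
    · rfl
    · rw [upD_succ, upD_zero, map_zero, Pi.zero_apply]
    · rw [upD_succ, upD_succ, D.d_d, Pi.zero_apply]
  d_mem n e f hf i := by
    rcases i with _ | i
    · exact ⟨zero_mem _, fun _ => rfl⟩
    · refine ⟨D.d_mem i e _ (hf i).1, fun h => ?_⟩
      rw [upD_succ, (hf i).2 (by simp only [Nat.cast_succ] at h ⊢; omega), map_zero]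
  smul_mem y hy n e f hf i := ⟨D.smul_mem y hy i e _ (hf i).1, fun h => by simp [(hf i).2 h]⟩

theorem ofSeq_ex_zero (D : SeqData L X) (e : ℤ) :
    (ofSeq D).Ex 0 e ↔ ∀ z ∈ D.S 0 e, D.d 0 z = 0 → z = 0 := by
  constructor
  · intro h z hz hd
    obtain ⟨w, hw, hwz⟩ := h (Pi.single 0 z) (single_mem_piecesOf hz rfl)
      (by show upD D.d _ = 0; rw [upD_single, hd, Pi.single_zero])
    have := congrFun hwz 0
    rw [Pi.single_eq_same] at this
    exact this.symm.trans rfl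
  · intro h f hf hd
    refine ⟨0, zero_mem _, ?_⟩
    have hs := eq_single Nat.cast_injective (i := 0) hf
    have h0 : D.d 0 (f 0) = 0 := congrFun hd 1
    rw [map_zero, hs, h _ (hf 0).1 h0, Pi.single_zero]

theorem ofSeq_ex_succ (D : SeqData L X) (i : ℕ) (e : ℤ) :
    (ofSeq D).Ex ((i + 1 : ℕ) : ℤ) e ↔ ∀ z ∈ D.S (i + 1) e, D.d (i + 1) z = 0 → ∃ w ∈ D.S i e, D.d i w = z := by
  constructor
  · intro h z hz hd
    obtain ⟨w, hw, hwz⟩ := h (Pi.single (i + 1) z) (single_mem_piecesOf hz rfl)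
      (by show upD D.d _ = 0; rw [upD_single, hd, Pi.single_zero])
    refine ⟨w i, (hw i).1, ?_⟩
    have := congrFun hwz (i + 1)
    rwa [Pi.single_eq_same] at this
  · intro h f hf hd
    have hs := eq_single Nat.cast_injective (i := i + 1) hf
    have h0 : D.d (i + 1) (f (i + 1)) = 0 := congrFun hd (i + 2)
    obtain ⟨w, hw, hwz⟩ := h _ (hf (i + 1)).1 h0
    refine ⟨Pi.single i w, single_mem_piecesOf hw (by push_cast; ring), ?_⟩
    show upD D.d _ = f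
    rw [upD_single, hwz, ← hs]

theorem ofSeq_ex_neg (D : SeqData L X) {n : ℤ} (hn : n < 0) (e : ℤ) : (ofSeq D).Ex n e := fun f hf _ =>
  ⟨0, zero_mem _, by rw [map_zero, eq_zero_of_piecesOf hf fun i => by omega]⟩

/-- hypotheses making a chain sequence a complex -/
structure ChainData (L : Set R) (X : ℕ → Type u) [∀ i, AddCommGroup (X i)] [∀ i, Module R (X i)] : Type u where
  d : ∀ i, X (i + 1) →ₗ[R] X i
  S : ∀ i, ℤ → AddSubgroup (X i)
  d_d : ∀ i z, d i (d (i + 1) z) = 0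
  d_mem : ∀ i e z, z ∈ S (i + 1) e → d i z ∈ S i e
  smul_mem : ∀ y ∈ L, ∀ i e z, z ∈ S i e → y • z ∈ S i (e + 1)

/-- the complex of a chain sequence, in non-positive cohomological degrees -/
abbrev ofChain (D : ChainData L X) : BC R L where
  T := ∀ i, X i
  d := downD D.d
  C := piecesOf D.S fun i => -(i : ℤ)
  d_d f := funext fun i => by rw [downD_apply, downD_apply, D.d_d, Pi.zero_apply]
  d_mem n e f hf i := by
    refine ⟨D.d_mem i e _ (hf (i + 1)).1, fun h => ?_⟩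
    rw [downD_apply, (hf (i + 1)).2 (by simp only [Nat.cast_succ] at h ⊢; omega), map_zero]
  smul_mem y hy n e f hf i := ⟨D.smul_mem y hy i e _ (hf i).1, fun h => by simp [(hf i).2 h]⟩

/-- a module concentrated in degree `0` -/
abbrev ofMod (L : Set R) (S : ℤ → AddSubgroup M) (hS : ∀ y ∈ L, ∀ e z, z ∈ S e → y • z ∈ S (e + 1)) : BC R L where
  T := M
  d := 0
  C n e := if n = 0 then S e else ⊥
  d_d _ := rfl
  d_mem _ _ _ _ := zero_mem _
  smul_mem y hy n e z hz := by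
    split_ifs at hz ⊢ with h
    · exact hS y hy e z hz
    · rw [AddSubgroup.mem_bot] at hz ⊢
      rw [hz, smul_zero]

theorem mem_ofMod {S : ℤ → AddSubgroup M} {hS : ∀ y ∈ L, ∀ e z, z ∈ S e → y • z ∈ S (e + 1)} {n e : ℤ} {z : M} :
    z ∈ (ofMod L S hS).C n e ↔ (n = 0 → z ∈ S e) ∧ (n ≠ 0 → z = 0) := by
  show z ∈ (if n = 0 then S e else ⊥) ↔ _
  split_ifs with h
  · simp [h]
  · simp [h]

theorem ofMod_ex {S : ℤ → AddSubgroup M} {hS : ∀ y ∈ L, ∀ e z, z ∈ S e → y • z ∈ S (e + 1)} (n e : ℤ) :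
    (ofMod L S hS).Ex n e ↔ (n = 0 → ∀ z ∈ S e, z = 0) := by
  constructor
  · intro h hn z hz
    obtain ⟨w, -, hw⟩ := h z (mem_ofMod.mpr ⟨fun _ => hz, fun h => absurd hn h⟩) rfl
    exact hw.symm
  · intro h z hz _
    refine ⟨0, zero_mem _, ?_⟩
    rcases eq_or_ne n 0 with hn | hn
    · rw [map_zero, h hn z ((mem_ofMod.mp hz).1 hn)]
    · rw [map_zero, (mem_ofMod.mp hz).2 hn]

/-- a short exact sequence of modules, concentrated in degree 0 -/
theorem isShort_ofMod {M₁ M₂ M₃ : Type u} [AddCommGroup M₁] [Module R M₁] [AddCommGroup M₂] [Module R M₂]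
    [AddCommGroup M₃] [Module R M₃] {S₁ : ℤ → AddSubgroup M₁} {S₂ : ℤ → AddSubgroup M₂} {S₃ : ℤ → AddSubgroup M₃}
    {h₁ : ∀ y ∈ L, ∀ e z, z ∈ S₁ e → y • z ∈ S₁ (e + 1)} {h₂ : ∀ y ∈ L, ∀ e z, z ∈ S₂ e → y • z ∈ S₂ (e + 1)}
    {h₃ : ∀ y ∈ L, ∀ e z, z ∈ S₃ e → y • z ∈ S₃ (e + 1)}
    (α : Hom (ofMod L S₁ h₁) (ofMod L S₂ h₂)) (β : Hom (ofMod L S₂ h₂) (ofMod L S₃ h₃))
    (hα : Function.Injective α.f) (hex : ∀ e, ∀ z ∈ S₂ e, β.f z = 0 → ∃ w ∈ S₁ e, α.f w = z)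
    (hβ : ∀ e, ∀ z ∈ S₃ e, ∃ w ∈ S₂ e, β.f w = z) (hc : ∀ z, β.f (α.f z) = 0) : IsShort α β := by
  refine ⟨hα, fun n e z hz hβz => ?_, fun n e z hz => ?_, hc⟩
  · rcases eq_or_ne n 0 with hn | hn
    · obtain ⟨w, hw, hwz⟩ := hex e z ((mem_ofMod.mp hz).1 hn) hβz
      exact ⟨w, mem_ofMod.mpr ⟨fun _ => hw, fun h => absurd hn h⟩, hwz⟩
    · exact ⟨0, zero_mem _, by rw [map_zero, (mem_ofMod.mp hz).2 hn]⟩
  · rcases eq_or_ne n 0 with hn | hn
    · obtain ⟨w, hw, hwz⟩ := hβ e z ((mem_ofMod.mp hz).1 hn)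
      exact ⟨w, mem_ofMod.mpr ⟨fun _ => hw, fun h => absurd hn h⟩, hwz⟩
    · exact ⟨0, zero_mem _, by rw [map_zero, (mem_ofMod.mp hz).2 hn]⟩

/-- the morphism of a homogeneous map of modules -/
def modHom {M₂ : Type u} [AddCommGroup M₂] [Module R M₂] {S₁ : ℤ → AddSubgroup M} {S₂ : ℤ → AddSubgroup M₂}
    {h₁ : ∀ y ∈ L, ∀ e z, z ∈ S₁ e → y • z ∈ S₁ (e + 1)} {h₂ : ∀ y ∈ L, ∀ e z, z ∈ S₂ e → y • z ∈ S₂ (e + 1)}
    (f : M →ₗ[R] M₂) (hf : ∀ e z, z ∈ S₁ e → f z ∈ S₂ e) : Hom (ofMod L S₁ h₁) (ofMod L S₂ h₂) where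
  f := f
  comm z := by show f (0 : M) = 0; exact map_zero f
  mem n e z hz := mem_ofMod.mpr ⟨fun h => hf e z ((mem_ofMod.mp hz).1 h),
    fun h => by rw [(mem_ofMod.mp hz).2 h, map_zero]⟩

section Aug

variable {S₀ : ℤ → AddSubgroup M} {hS : ∀ y ∈ L, ∀ e z, z ∈ S₀ e → y • z ∈ S₀ (e + 1)}

/-- augmentation of a cochain sequence -/
noncomputable def coaugHom (D : SeqData L X) (ε : M →ₗ[R] X 0) (hε : ∀ e z, z ∈ S₀ e → ε z ∈ D.S 0 e)
    (hd : ∀ m, D.d 0 (ε m) = 0) : Hom (ofMod L S₀ hS) (ofSeq D) where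
  f := LinearMap.single R X 0 ∘ₗ ε
  comm z := by
    show Pi.single 0 (ε 0) = upD D.d (Pi.single 0 (ε z))
    rw [upD_single, hd, map_zero, Pi.single_zero, Pi.single_zero]
  mem n e z hz := by
    rcases eq_or_ne n 0 with hn | hn
    · subst hn; exact single_mem_piecesOf (hε e z ((mem_ofMod.mp hz).1 rfl)) rfl
    · show Pi.single 0 (ε z) ∈ _
      rw [(mem_ofMod.mp hz).2 hn, map_zero, Pi.single_zero]
      exact zero_mem _

theorem isQ_coaugHom (D : SeqData L X) (ε : M →ₗ[R] X 0) (hε : ∀ e z, z ∈ S₀ e → ε z ∈ D.S 0 e)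
    (hd : ∀ m, D.d 0 (ε m) = 0) (hinj : Function.Injective ε)
    (h0 : ∀ e, ∀ z ∈ D.S 0 e, D.d 0 z = 0 → ∃ m ∈ S₀ e, ε m = z)
    (hs : ∀ i e, ∀ z ∈ D.S (i + 1) e, D.d (i + 1) z = 0 → ∃ w ∈ D.S i e, D.d i w = z) :
    (coaugHom (hS := hS) D ε hε hd).IsQ := by
  refine ⟨fun n e z _ _ w hw hwz => ⟨0, zero_mem _, ?_⟩, fun n e f hf hdf => ?_⟩
  · have h := congrFun hwz 0
    refine (map_zero _).trans (hinj ?_)
    rw [map_zero]
    exact h.trans (Pi.single_eq_same (M := X) 0 (ε z))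
  · rcases lt_trichotomy n 0 with hn | hn | hn
    · exact ⟨0, zero_mem _, map_zero _, 0, zero_mem _, by
        rw [eq_zero_of_piecesOf hf fun i => by omega, map_zero, map_zero, add_zero]⟩
    · subst hn
      obtain ⟨m, hm, hmz⟩ := h0 e (f 0) (hf 0).1 (congrFun hdf 1)
      refine ⟨m, mem_ofMod.mpr ⟨fun _ => hm, fun h => absurd rfl h⟩, rfl, 0, zero_mem _, ?_⟩
      show Pi.single 0 (ε m) = f + _
      rw [map_zero, add_zero, hmz, ← eq_single Nat.cast_injective (i := 0) hf]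
    · obtain ⟨i, rfl⟩ : ∃ i : ℕ, n = ((i + 1 : ℕ) : ℤ) := ⟨(n - 1).toNat, by omega⟩
      obtain ⟨w, hw, hwz⟩ := hs i e (f (i + 1)) (hf (i + 1)).1 (congrFun hdf (i + 2))
      refine ⟨0, zero_mem _, map_zero _, -Pi.single i w, neg_mem (single_mem_piecesOf hw (by push_cast; ring)), ?_⟩
      rw [map_zero, map_neg]
      show 0 = f + -upD D.d (Pi.single i w)
      rw [upD_single, hwz, ← eq_single Nat.cast_injective (i := i + 1) hf, add_neg_cancel]

/-- augmentation of a chain sequence -/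
noncomputable def augHom (D : ChainData L X) (ε : X 0 →ₗ[R] M) (hε : ∀ e z, z ∈ D.S 0 e → ε z ∈ S₀ e)
    (hd : ∀ v, ε (D.d 0 v) = 0) : Hom (ofChain D) (ofMod L S₀ hS) where
  f := ε ∘ₗ LinearMap.proj 0
  comm z := hd _
  mem n e z hz := mem_ofMod.mpr ⟨fun _ => hε e _ (hz 0).1, fun h => by
    show ε (z 0) = 0
    rw [(hz 0).2 (by simpa using h.symm), map_zero]⟩

theorem isQ_augHom (D : ChainData L X) (ε : X 0 →ₗ[R] M) (hε : ∀ e z, z ∈ D.S 0 e → ε z ∈ S₀ e)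
    (hd : ∀ v, ε (D.d 0 v) = 0) (hsurj : ∀ e, ∀ m ∈ S₀ e, ∃ v ∈ D.S 0 e, ε v = m)
    (h0 : ∀ e, ∀ v ∈ D.S 0 e, ε v = 0 → ∃ w ∈ D.S 1 e, D.d 0 w = v)
    (hs : ∀ i e, ∀ v ∈ D.S (i + 1) e, D.d i v = 0 → ∃ w ∈ D.S (i + 2) e, D.d (i + 1) w = v) :
    (augHom (hS := hS) D ε hε hd).IsQ := by
  have hg : Function.Injective fun i : ℕ => -(i : ℤ) := fun a b h => by simpa using h
  refine ⟨fun n e f hf hdf w hw hwz => ?_, fun n e m hm _ => ?_⟩
  · by_cases hn : ∃ i : ℕ, -(i : ℤ) = n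
    · obtain ⟨i, rfl⟩ := hn
      rcases i with _ | i
      · obtain ⟨v, hv, hvz⟩ := h0 e (f 0) (hf 0).1 hwz.symm
        refine ⟨Pi.single 1 v, single_mem_piecesOf hv (by simp), ?_⟩
        show downD D.d _ = f
        rw [downD_single, hvz, ← eq_single hg (i := 0) hf]
      · obtain ⟨v, hv, hvz⟩ := hs i e (f (i + 1)) (hf (i + 1)).1 (congrFun hdf i)
        refine ⟨Pi.single (i + 2) v, single_mem_piecesOf hv (by push_cast; ring), ?_⟩
        show downD D.d _ = f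
        rw [downD_single, hvz, ← eq_single hg (i := i + 1) hf]
    · push Not at hn
      exact ⟨0, zero_mem _, by rw [map_zero, eq_zero_of_piecesOf hf hn]⟩
  · rcases eq_or_ne n 0 with hn | hn
    · subst hn
      obtain ⟨v, hv, hvm⟩ := hsurj e m ((mem_ofMod.mp hm).1 rfl)
      refine ⟨Pi.single 0 v, single_mem_piecesOf hv (by simp), downD_single_zero D.d v, 0, zero_mem _, ?_⟩
      show ε ((Pi.single 0 v : ∀ i, X i) 0) = m + 0
      rw [Pi.single_eq_same, hvm, add_zero]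
    · exact ⟨0, zero_mem _, map_zero _, 0, zero_mem _, by
        rw [map_zero, (mem_ofMod.mp hm).2 hn, map_zero, zero_add]⟩

end Aug

end Groth.Agent.H3CAlg.KC
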